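import Cfsg.Agent.HalfClasses.Tools
import Cfsg.Agent.Transfer.Fusion
import Cfsg.Agent.ZStar.Theorem
import Cfsg.Agent.PLocal.Cores

/-!
# Fusion when the 2-elements fall into half as many classes as the Sylow order

If a group with trivial odd core has exactly `|P|/2` classes of 2-elements, the focal subgroup of
`P` is contained in a four-group containing `P'`, and the group is not a 2-group.
-/

set_option autoImplicit false
set_option linter.unusedSectionVars false
set_option linter.style.haveILetI false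

namespace CfsgLib.HalfClasses

open Subgroup
open scoped commutatorElement

variable {G : Type*} [Group G] [Finite G]

/-- An element normalizing a Sylow subgroup is an element of it times an element of odd order
normalizing it. -/
theorem exists_odd_part (P : Sylow 2 G) {n : G} (hn : n ∈ normalizer (P : Set G)) :
    ∃ q m : G, q ∈ (P : Subgroup G) ∧ m ∈ normalizer (P : Set G) ∧ Odd (orderOf m) ∧ n = q * m := by
  haveI : Fact (Nat.Prime 2) := ⟨Nat.prime_two⟩
  obtain ⟨a, o, hodd, hno⟩ := Nat.exists_eq_two_pow_mul_odd (n := orderOf n) (orderOf_pos n).ne'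
  obtain ⟨c, hc1, hc2⟩ := Nat.chineseRemainder ((Nat.coprime_two_left.2 hodd).pow_left a) 0 1
  set m := n ^ c
  have hm : m ∈ normalizer (P : Set G) := pow_mem hn c
  have hmo : m ^ o = 1 := by
    rw [← pow_mul, ← orderOf_dvd_iff_pow_eq_one, hno]
    exact Nat.mul_dvd_mul_right (Nat.modEq_zero_iff_dvd.1 hc1) o
  have hq2 : (n * m⁻¹) ^ 2 ^ a = 1 := by
    have hc : Commute n m⁻¹ := ((Commute.refl n).pow_right c).inv_right
    rw [hc.mul_pow, inv_pow, mul_inv_eq_one, ← pow_mul, pow_eq_pow_iff_modEq, hno]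
    have := (hc2.symm).mul_left' (2 ^ a)
    rw [mul_one] at this
    rwa [mul_comm c]
  have hq : IsPGroup 2 (zpowers (n * m⁻¹)) := by
    obtain ⟨k, -, hk⟩ := (Nat.dvd_prime_pow Nat.prime_two).1 (orderOf_dvd_of_pow_eq_one hq2)
    exact IsPGroup.of_card (n := k) (by rw [Nat.card_zpowers, hk])
  refine ⟨n * m⁻¹, m, ?_, hm, Odd.of_dvd_nat hodd (orderOf_dvd_of_pow_eq_one hmo), by group⟩
  have hnorm : zpowers (n * m⁻¹) ≤ normalizer (P : Set G) := zpowers_le.2 (mul_mem hn (inv_mem hm))
  exact P.is_maximal' (IsPGroup.to_sup_of_normal_right' hq P.isPGroup' hnorm) le_sup_right ▸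
    mem_sup_left (mem_zpowers _)

/-- The automorphism of `P` given by a normalizing element. -/
noncomputable def conjP (P : Subgroup G) (m : G) (hm : m ∈ normalizer (P : Set G)) : MulAut P where
  toFun x := ⟨m * x * m⁻¹, (mem_normalizer_iff.1 hm x).1 x.2⟩
  invFun x := ⟨m⁻¹ * x * m, by
    have := (mem_normalizer_iff.1 (inv_mem hm) x).1 x.2
    rwa [inv_inv] at this⟩
  left_inv x := Subtype.ext (show m⁻¹ * (m * x * m⁻¹) * m = x by group)
  right_inv x := Subtype.ext (show m * (m⁻¹ * x * m) * m⁻¹ = x by group)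
  map_mul' x y := Subtype.ext (show m * (x * y) * m⁻¹ = m * x * m⁻¹ * (m * y * m⁻¹) by group)

theorem conjP_pow (P : Subgroup G) (m : G) (hm : m ∈ normalizer (P : Set G)) (j : ℕ) (x : P) :
    (((conjP P m hm ^ j) x : P) : G) = m ^ j * x * (m ^ j)⁻¹ := by
  induction j with
  | zero => simp
  | succ j ih =>
    rw [pow_succ', MulAut.mul_apply]
    show m * _ * m⁻¹ = _
    rw [ih, pow_succ']
    group

theorem conjP_pow_orderOf (P : Subgroup G) (m : G) (hm : m ∈ normalizer (P : Set G)) :
    conjP P m hm ^ orderOf m = 1 := by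
  ext x
  rw [conjP_pow, pow_orderOf_eq_one, MulAut.one_apply]
  group

/-- Fusion of central elements happens in the normalizer. -/
theorem exists_normalizer_of_central (P : Sylow 2 G) {a : G} {g : G}
    (ha : ∀ x ∈ (P : Subgroup G), x * a = a * x)
    (hb : ∀ x ∈ (P : Subgroup G), x * (g * a * g⁻¹) = g * a * g⁻¹ * x) :
    ∃ n ∈ normalizer (P : Set G), n * a * n⁻¹ = g * a * g⁻¹ := by
  haveI : Fact (Nat.Prime 2) := ⟨Nat.prime_two⟩
  obtain ⟨n, hn, h⟩ := Transfer.exists_mem_normalizer_conj_of_weaklyClosed P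
    (Transfer.isWeaklyClosed_self (P : Subgroup G)) (X := {a}) (g := g)
    (fun x hx => mem_centralizer_singleton_iff.2 (ha x hx))
    (by
      intro x hx
      rw [Set.image_singleton, mem_centralizer_singleton_iff]
      exact hb x hx)
  exact ⟨n, hn, h a rfl⟩

/-- A central element is not fused to another one differing by a fixed element. -/
theorem central_not_fused (P : Sylow 2 G) {z : G} (hz : z * z = 1)
    (hzN : ∀ n ∈ normalizer (P : Set G), n * z * n⁻¹ = z) {a : G}
    (ha : ∀ x ∈ (P : Subgroup G), x * a = a * x) {g : G}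
    (hb : ∀ x ∈ (P : Subgroup G), x * (g * a * g⁻¹) = g * a * g⁻¹ * x)
    (hab : g * a * g⁻¹ = a * z) : z = 1 := by
  obtain ⟨n, hn, hna⟩ := exists_normalizer_of_central P ha hb
  obtain ⟨q, m, hq, hm, ⟨j, hj⟩, rfl⟩ := exists_odd_part P hn
  have h1 : m * a * m⁻¹ = a * z := by
    rw [hab] at hna
    calc m * a * m⁻¹ = q⁻¹ * (q * m * a * (q * m)⁻¹) * q := by group
      _ = q⁻¹ * (a * z) * q := by rw [hna]
      _ = a * z := by
        have h2 := hb q hq
        rw [hab] at h2
        rw [mul_assoc, ← h2, inv_mul_cancel_left]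
  have h2 : m ^ 2 * a * (m ^ 2)⁻¹ = a := by
    rw [pow_two]
    calc m * m * a * (m * m)⁻¹ = m * (m * a * m⁻¹) * m⁻¹ := by group
      _ = m * (a * z) * m⁻¹ := by rw [h1]
      _ = m * a * m⁻¹ * (m * z * m⁻¹) := by group
      _ = a := by rw [h1, hzN m hm, mul_assoc, hz, mul_one]
  have h3 : Commute (m ^ 2) a := mul_inv_eq_iff_eq_mul.1 h2
  have h4 : Commute m a := by
    have : m = (m ^ 2) ^ (j + 1) := by
      rw [← pow_mul, show 2 * (j + 1) = orderOf m + 1 by omega, pow_succ, pow_orderOf_eq_one,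
        one_mul]
    rw [this]
    exact h3.pow_left _
  rw [h4.eq, mul_inv_cancel_right] at h1
  exact left_eq_mul.1 h1

/-- The map from classes of `P` to classes of `G`. -/
def cls (P : Subgroup G) : ConjClasses P → ConjClasses G := ConjClasses.map P.subtype

theorem cls_mk (P : Subgroup G) (x : P) : cls P (ConjClasses.mk x) = ConjClasses.mk (x : G) := rfl

theorem cls_eq_iff (P : Subgroup G) (x y : P) :
    cls P (ConjClasses.mk x) = cls P (ConjClasses.mk y) ↔ ∃ g : G, g * x * g⁻¹ = y := by
  rw [cls_mk, cls_mk, ConjClasses.mk_eq_mk_iff_isConj, isConj_iff]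

/-- **The abelian case.** -/
theorem four_of_abelian (P : Sylow 2 G) (hk : 2 * (Set.range (cls (P : Subgroup G))).ncard =
      Nat.card (P : Subgroup G)) (hab : ∀ a b : (P : Subgroup G), Commute a b) :
    ∃ V : Subgroup G, V ≤ P ∧ Nat.card V = 4 ∧ (∀ x ∈ V, x * x = 1) ∧
      ∀ a ∈ (P : Subgroup G), ∀ g : G, g * a * g⁻¹ ∈ (P : Subgroup G) →
        a⁻¹ * (g * a * g⁻¹) ∈ V := by
  haveI : Fact (Nat.Prime 2) := ⟨Nat.prime_two⟩
  have hinj : ∀ a b : (P : Subgroup G), ConjClasses.mk a = ConjClasses.mk b → b = a := fun a b h =>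
    eq_of_mk_eq_of_mem_center (mem_center_iff.2 fun x => (hab x a).eq) h
  have hpos : 0 < Nat.card (P : Subgroup G) := Nat.card_pos
  have hkP : Nat.card (ConjClasses (P : Subgroup G)) = Nat.card (P : Subgroup G) :=
    (Nat.card_eq_of_bijective ConjClasses.mk ⟨fun a b h => (hinj a b h).symm,
      ConjClasses.mk_surjective⟩).symm
  have hcent : ∀ {a : (P : Subgroup G)}, ∀ x ∈ (P : Subgroup G), x * (a : G) = a * x :=
    fun {a} x hx => congrArg Subtype.val (hab ⟨x, hx⟩ a).eq
  obtain ⟨m, hm, hodd, hne⟩ : ∃ m : G, ∃ hm : m ∈ normalizer (P : Set G), Odd (orderOf m) ∧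
      ∃ x, conjP (P : Subgroup G) m hm x ≠ x := by
    by_contra hcon
    push_neg at hcon
    have hf : Function.Injective (cls (P : Subgroup G)) := by
      intro c d h
      obtain ⟨a, rfl⟩ := ConjClasses.mk_surjective c
      obtain ⟨b, rfl⟩ := ConjClasses.mk_surjective d
      obtain ⟨g, hg⟩ := (cls_eq_iff _ a b).1 h
      obtain ⟨n, hn, hna⟩ := exists_normalizer_of_central P (a := (a : G)) (g := g) hcent
        (by rw [hg]; exact hcent)
      obtain ⟨q, m, hq, hm, hodd, rfl⟩ := exists_odd_part P hn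
      have h1 : m * (a : G) * m⁻¹ = a := congrArg Subtype.val (hcon m hm hodd a)
      congr 1
      apply Subtype.ext
      rw [← hg, ← hna, show q * m * (a : G) * (q * m)⁻¹ = q * (m * a * m⁻¹) * q⁻¹ by group, h1]
      rw [hcent q hq, mul_inv_cancel_right]
    rw [Set.ncard_range_of_injective hf, hkP] at hk
    omega
  set φ := conjP (P : Subgroup G) m hm with hφ
  have hbij : Function.Bijective (@ConjClasses.mk (P : Subgroup G) _) :=
    ⟨fun a b h => (hinj a b h).symm, ConjClasses.mk_surjective⟩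
  let σ : Equiv.Perm (ConjClasses (P : Subgroup G)) :=
    (Equiv.ofBijective ConjClasses.mk hbij).permCongr φ.toEquiv
  have hσmk : ∀ a, σ (ConjClasses.mk a) = ConjClasses.mk (φ a) := fun a => by
    show Equiv.ofBijective ConjClasses.mk hbij (φ ((Equiv.ofBijective ConjClasses.mk hbij).symm
      (ConjClasses.mk a))) = _
    rw [Equiv.ofBijective_symm_apply_apply]
    rfl
  have hσo : σ ^ orderOf m = 1 := by
    have key : ∀ j a, (σ ^ j) (ConjClasses.mk a) = ConjClasses.mk ((φ ^ j) a) := by
      intro j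
      induction j with
      | zero => intro a; rfl
      | succ j ih => intro a; rw [pow_succ, Equiv.Perm.mul_apply, hσmk, ih, pow_succ, MulAut.mul_apply]
    ext c
    obtain ⟨a, rfl⟩ := ConjClasses.mk_surjective c
    rw [key, hφ, conjP_pow_orderOf]
    rfl
  have hσf : ∀ c, cls (P : Subgroup G) (σ c) = cls (P : Subgroup G) c := by
    intro c
    obtain ⟨a, rfl⟩ := ConjClasses.mk_surjective c
    rw [hσmk, eq_comm, cls_eq_iff]
    exact ⟨m, rfl⟩
  obtain ⟨hineq, heq⟩ := three_mul_card_range_le (cls (P : Subgroup G)) σ hodd hσo hσf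
  let D : (P : Subgroup G) →* (P : Subgroup G) := MonoidHom.mk' (fun x => x⁻¹ * φ x) fun x y => by
    rw [map_mul, mul_inv_rev, (hab y⁻¹ x⁻¹).eq]
    rw [mul_assoc, ← mul_assoc y⁻¹, (hab y⁻¹ (φ x)).eq]
    simp only [mul_assoc]
  have h4 : 4 ≤ D.ker.index := by
    refine four_le_index_fix P.isPGroup' φ hodd (conjP_pow_orderOf _ _ _) ⊥
      (fun z hz => by rw [Subgroup.mem_bot.1 hz, map_one]) D.ker
      (fun x => by rw [Subgroup.mem_bot]; rfl) fun htop => ?_
    obtain ⟨x, hx⟩ := hne
    exact hx (inv_mul_eq_one.1 ((eq_top_iff' _).1 htop x : D x = 1)).symm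
  have hmoved : {c | σ c ≠ c}.ncard + Nat.card D.ker = Nat.card (P : Subgroup G) := by
    have himg : {c | σ c ≠ c} = ConjClasses.mk '' (D.ker : Set (P : Subgroup G))ᶜ := by
      ext c
      obtain ⟨a, rfl⟩ := ConjClasses.mk_surjective c
      have h1 : a ∈ D.ker ↔ φ a = a := (inv_mul_eq_one (a := a) (b := φ a)).trans eq_comm
      simp only [Set.mem_setOf_eq, hσmk, Set.mem_image, Set.mem_compl_iff, SetLike.mem_coe]
      refine ⟨fun h => ⟨a, fun ha => h (by rw [h1.1 ha]), rfl⟩, ?_⟩
      rintro ⟨b, hb, hba⟩ h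
      obtain rfl : a = b := hinj _ _ hba
      exact hb (h1.2 (hinj _ _ h).symm)
    rw [himg, Set.ncard_image_of_injective _ (fun a b h => (hinj a b h).symm), add_comm]
    exact Set.ncard_add_ncard_compl (D.ker : Set (P : Subgroup G))
  have hkD : Nat.card D.ker * 4 ≤ Nat.card (P : Subgroup G) := by
    rw [← D.ker.card_mul_index]; exact Nat.mul_le_mul_left _ h4
  rw [hkP] at hineq heq
  have hD4 : Nat.card D.range = 4 := by
    rw [← index_ker]
    have h5 : Nat.card D.ker * 4 = Nat.card (P : Subgroup G) := by omega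
    exact Nat.eq_of_mul_eq_mul_left Nat.card_pos
      (D.ker.card_mul_index.trans h5.symm)
  have heq' := heq (by omega)
  have hinvφ : ∀ y ∈ D.range, φ y ∈ D.range := by
    rintro _ ⟨x, rfl⟩
    exact ⟨φ x, by show (φ x)⁻¹ * φ (φ x) = φ (x⁻¹ * φ x); rw [map_mul, map_inv]⟩
  have hsq : ∀ y ∈ D.range, y * y = 1 := by
    have hfix : ∀ y ∈ D.range, φ y = y → y = 1 := by
      rintro _ ⟨x, rfl⟩ hy
      have hpow : ∀ j : ℕ, (φ ^ j) x = x * (D x) ^ j := by
        intro j
        induction j with
        | zero => simp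
        | succ j ih =>
          rw [pow_succ', MulAut.mul_apply, ih, map_mul, map_pow, hy, pow_succ', ← mul_assoc]
          congr 1
          show φ x = x * (x⁻¹ * φ x)
          group
      have h1 : D x ^ orderOf m = 1 := by
        have := hpow (orderOf m)
        rw [conjP_pow_orderOf, MulAut.one_apply, left_eq_mul] at this
        exact this
      obtain ⟨j, hj⟩ := P.isPGroup' (D x)
      have h3 : orderOf (D x) ∣ Nat.gcd (orderOf m) (2 ^ j) :=
        Nat.dvd_gcd (orderOf_dvd_of_pow_eq_one h1) (orderOf_dvd_of_pow_eq_one hj)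
      rw [Nat.Coprime.pow_right j (Nat.coprime_two_right.2 hodd), Nat.dvd_one,
        orderOf_eq_one_iff] at h3
      exact h3
    -- a cyclic range would be fixed
    obtain ⟨y₀, hy₀⟩ := exists_prime_orderOf_dvd_card' (G := D.range) 2 (by rw [hD4]; norm_num)
    have hy₀' : orderOf (y₀ : (P : Subgroup G)) = 2 := by rw [orderOf_coe, hy₀]
    intro y hy
    by_contra hne2
    have hy4 : orderOf y = 4 := by
      have hd : orderOf y ∣ 4 := by
        rw [← orderOf_mk y hy, ← hD4]; exact _root_.orderOf_dvd_natCard _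
      obtain ⟨j, hj, hj'⟩ := (Nat.dvd_prime_pow Nat.prime_two).1 (show orderOf y ∣ 2 ^ 2 from hd)
      rcases j with _ | _ | _ | j
      · refine absurd ?_ hne2
        rw [pow_zero, orderOf_eq_one_iff] at hj'
        rw [hj', mul_one]
      · refine absurd ?_ hne2
        have := pow_orderOf_eq_one y
        rw [hj', pow_succ, pow_zero, one_mul, sq] at this
        exact this
      · simpa using hj'
      · omega
    have htop : zpowers y = D.range := eq_of_le_of_card_ge (zpowers_le.2 hy)
      (by rw [hD4, Nat.card_zpowers, hy4])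
    have hy2mem : ∀ w ∈ D.range, w * w = 1 → w = 1 ∨ w = y * y := by
      intro w hw hw2
      rw [← htop] at hw
      obtain ⟨i, rfl⟩ := mem_zpowers_iff.1 hw
      rw [← zpow_add, ← orderOf_dvd_iff_zpow_eq_one, hy4] at hw2
      obtain ⟨c, hc⟩ : (2 : ℤ) ∣ i := by omega
      subst hc
      rcases Int.even_or_odd c with ⟨e, rfl⟩ | ⟨e, rfl⟩
      · left
        rw [← orderOf_dvd_iff_zpow_eq_one, hy4]
        exact ⟨e, by ring⟩
      · right
        rw [show y * y = y ^ (2 : ℤ) by rw [zpow_two], ← mul_inv_eq_one, ← zpow_neg, ← zpow_add,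
          ← orderOf_dvd_iff_zpow_eq_one, hy4]
        exact ⟨e, by ring⟩
    have hyy : y * y * (y * y) = 1 := by
      have := pow_orderOf_eq_one y
      rw [hy4, show (4 : ℕ) = 2 + 2 from rfl, pow_add, sq] at this
      exact this
    rcases hy2mem _ (hinvφ _ (mul_mem hy hy)) (by rw [← map_mul, hyy, map_one]) with h | h
    · exact hne2 (φ.injective (h.trans (map_one φ).symm))
    · exact hne2 (hfix _ (mul_mem hy hy) h)
  refine ⟨D.range.map (P : Subgroup G).subtype, map_subtype_le _, ?_, ?_, ?_⟩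
  · rw [← Nat.card_congr (D.range.equivMapOfInjective _ (P : Subgroup G).subtype_injective).toEquiv]
    exact hD4
  · rintro _ ⟨y, hy, rfl⟩
    rw [← map_mul, hsq y hy, map_one]
  · intro a ha g hg
    set x : (P : Subgroup G) := ⟨a, ha⟩
    set x' : (P : Subgroup G) := ⟨g * a * g⁻¹, hg⟩
    refine ⟨x⁻¹ * x', ?_, rfl⟩
    rcases heq' (ConjClasses.mk x) (ConjClasses.mk x') ((cls_eq_iff _ x x').2 ⟨g, rfl⟩) with h | h | h
    · rw [hinj _ _ h.symm, inv_mul_cancel]; exact one_mem _
    · rw [hσmk] at h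
      rw [hinj _ _ h.symm]
      exact ⟨x, rfl⟩
    · rw [hσmk, hσmk] at h
      rw [hinj _ _ h.symm, show x⁻¹ * φ (φ x) = x⁻¹ * φ x * ((φ x)⁻¹ * φ (φ x)) by group]
      exact mul_mem ⟨x, rfl⟩ ⟨φ x, rfl⟩

/-- **The case `|P'| = 2`.** -/
theorem four_of_commutator_two (P : Sylow 2 G) (hO : Cfsg.oddCore G = ⊥)
    (hk : 2 * (Set.range (cls (P : Subgroup G))).ncard = Nat.card (P : Subgroup G))
    (z : (P : Subgroup G)) (hz1 : z ≠ 1) (hcomm : ∀ a b : (P : Subgroup G), ⁅a, b⁆ = 1 ∨ ⁅a, b⁆ = z)
    (hne : ∃ a b : (P : Subgroup G), ⁅a, b⁆ = z) :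
    ∃ V : Subgroup G, V ≤ P ∧ Nat.card V = 4 ∧ (∀ x ∈ V, x * x = 1) ∧ (z : G) ∈ V ∧
      ∀ a ∈ (P : Subgroup G), ∀ g : G, g * a * g⁻¹ ∈ (P : Subgroup G) →
        a⁻¹ * (g * a * g⁻¹) ∈ V := by
  classical
  haveI : Fact (Nat.Prime 2) := ⟨Nat.prime_two⟩
  obtain ⟨a₀, b₀, h₀⟩ := hne
  have hzc : z ∈ center (P : Subgroup G) := by
    refine mem_center_iff.2 fun x => mul_inv_eq_iff_eq_mul.1 ?_
    rcases hcomm (x * a₀ * x⁻¹) (x * b₀ * x⁻¹) with h | h
    · rw [← h₀] at hz1 ⊢
      exact absurd (conj_eq_one_iff.1 (show x * ⁅a₀, b₀⁆ * x⁻¹ = 1 by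
        rw [← h, commutatorElement_def, commutatorElement_def]; group)) hz1
    · rw [← h₀] at h ⊢
      simp only [commutatorElement_def] at h ⊢
      exact (show x * (a₀ * b₀ * a₀⁻¹ * b₀⁻¹) * x⁻¹ = _ by group).trans h
  have hz2 : z * z = 1 := by
    rcases hcomm b₀ a₀ with h | h <;> rw [← commutatorElement_inv, h₀] at h
    · exact absurd (inv_eq_one.1 h) hz1
    · rw [inv_eq_iff_mul_eq_one] at h; exact h
  have hz2' : (z : G) * z = 1 := congrArg Subtype.val hz2
  have hzN : ∀ n ∈ normalizer ((P : Subgroup G) : Set G), n * (z : G) * n⁻¹ = z := by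
    intro n hn
    set φ := conjP (P : Subgroup G) n hn
    have h1 : φ z = ⁅φ a₀, φ b₀⁆ := by rw [← h₀, map_commutatorElement]
    rcases hcomm (φ a₀) (φ b₀) with h | h
    · rw [h, MulEquiv.map_eq_one_iff] at h1; exact absurd h1 hz1
    · rw [h] at h1; exact congrArg Subtype.val h1
  have hclass : ∀ a b : (P : Subgroup G), ConjClasses.mk a = ConjClasses.mk b →
      b = a ∨ b = z * a := by
    intro a b h
    obtain ⟨g, rfl⟩ := isConj_iff.1 (ConjClasses.mk_eq_mk_iff_isConj.1 h)
    rcases hcomm g a with h | h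
    · left; rw [commutatorElement_def, mul_inv_eq_one] at h; exact h
    · right; rw [← h, commutatorElement_def]; group
  have hcent : ∀ {a : (P : Subgroup G)}, a ∈ center (P : Subgroup G) →
      ∀ x ∈ (P : Subgroup G), x * (a : G) = a * x :=
    fun {a} ha x hx => congrArg Subtype.val (mem_center_iff.1 ha ⟨x, hx⟩)
  have hnonab : ∃ a b : (P : Subgroup G), ¬ Commute a b :=
    ⟨a₀, b₀, fun h => hz1 (h₀.symm.trans (commutatorElement_eq_one_iff_commute.2 h))⟩
  have hidx := four_le_index_center P.isPGroup' hnonab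
  have hkP := two_mul_card_classes z hcomm
  have hct : Nat.card (center (P : Subgroup G)) * 4 ≤ Nat.card (P : Subgroup G) := by
    rw [← (center (P : Subgroup G)).card_mul_index]; exact Nat.mul_le_mul_left _ hidx
  have hpos : 0 < Nat.card (center (P : Subgroup G)) := Nat.card_pos
  -- `z` is fused to another element of `P`
  obtain ⟨g₀, hg₀P, hg₀⟩ : ∃ g : G, g * (z : G) * g⁻¹ ∈ (P : Subgroup G) ∧
      g * (z : G) * g⁻¹ ≠ z := by
    by_contra hiso
    push Not at hiso
    have hzord : orderOf (z : G) = 2 := Small.orderOf_eq_two_iff_sq.2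
      ⟨fun h => hz1 (Subtype.ext h), hz2'⟩
    obtain ⟨N, hN, hNodd, hNc⟩ := ZStar.exists_oddNormal_of_sylow P hzord z.2 hiso
    have hbot : N = ⊥ := by
      rw [eq_bot_iff, ← hO]
      exact CfsgLib.PLocal.le_pPrimeCore (hN := hN) (Nat.coprime_two_right.2 hNodd)
    subst hbot
    have hzG : ∀ g : G, (z : G) * g = g * z := fun g => by
      have := Subgroup.mem_bot.1 (hNc g)
      rwa [mul_inv_eq_one, mul_inv_eq_iff_eq_mul] at this
    haveI : (zpowers (z : G)).Normal := ⟨fun x hx g => by
      obtain ⟨i, rfl⟩ := mem_zpowers_iff.1 hx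
      rw [((Commute.zpow_left (hzG g) i)).eq.symm, mul_inv_cancel_right]
      exact hx⟩
    have hzp : ∀ w ∈ zpowers (z : G), w = 1 ∨ w = z := by
      intro w hw
      obtain ⟨i, rfl⟩ := mem_zpowers_iff.1 hw
      rcases Int.even_or_odd i with ⟨e, rfl⟩ | ⟨e, rfl⟩
      · left; rw [← two_mul, zpow_mul, zpow_two, hz2', one_zpow]
      · right; rw [zpow_add, zpow_mul, zpow_two, hz2', one_zpow, one_mul, zpow_one]
    -- fusion is induced by the normalizer modulo `z`
    have hfus : ∀ a b : (P : Subgroup G), (∃ g, g * (a : G) * g⁻¹ = b) →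
        ∃ n ∈ normalizer ((P : Subgroup G) : Set G),
          (b : G) = n * a * n⁻¹ ∨ (b : G) = n * a * n⁻¹ * z := by
      rintro a b ⟨g, hg⟩
      set π := QuotientGroup.mk' (zpowers (z : G)) with hπ
      let P' := P.mapSurjective (QuotientGroup.mk'_surjective (zpowers (z : G)))
      have hP'c : (P' : Subgroup _) = (P : Subgroup G).map π := Sylow.coe_mapSurjective _ _
      have hcomm' : ∀ c : (P : Subgroup G), ∀ x ∈ (P' : Subgroup _), x * π c = π c * x := by
        intro c x hx
        rw [hP'c] at hx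
        obtain ⟨y, hy, rfl⟩ := hx
        rw [← commutatorElement_eq_one_iff_mul_comm, ← map_commutatorElement, hπ,
          QuotientGroup.mk'_apply, QuotientGroup.eq_one_iff]
        rcases hcomm ⟨y, hy⟩ c with h | h
        · rw [show ⁅y, (c : G)⁆ = 1 from congrArg Subtype.val h]; exact one_mem _
        · rw [show ⁅y, (c : G)⁆ = z from congrArg Subtype.val h]; exact mem_zpowers _
      obtain ⟨n', hn', hn'a⟩ := exists_normalizer_of_central P' (a := π a) (g := π g) (hcomm' a)
        (by rw [← map_mul, ← map_inv, ← map_mul, hg]; exact hcomm' b)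
      obtain ⟨n, rfl⟩ := QuotientGroup.mk'_surjective (zpowers (z : G)) n'
      refine ⟨n, ?_, ?_⟩
      · refine Subgroup.mem_normalizer_fintype fun x hx => ?_
        have h1 : π n * π x * (π n)⁻¹ ∈ (P' : Subgroup _) :=
          (mem_normalizer_iff.1 hn' (π x)).1 (hP'c.symm ▸ ⟨x, hx, rfl⟩)
        rw [← map_mul, ← map_inv, ← map_mul, hP'c] at h1
        obtain ⟨y, hy, hyx⟩ := h1
        rw [hπ, QuotientGroup.mk'_apply, QuotientGroup.mk'_apply, QuotientGroup.eq] at hyx
        rcases hzp _ hyx with h | h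
        · rw [inv_mul_eq_one] at h; exact h ▸ hy
        · rw [inv_mul_eq_iff_eq_mul] at h; exact h ▸ mul_mem hy z.2
      · rw [← map_mul, ← map_inv, ← map_mul, ← map_mul, ← map_inv, ← map_mul, hg, hπ,
          QuotientGroup.mk'_apply, QuotientGroup.mk'_apply, QuotientGroup.eq] at hn'a
        rcases hzp _ hn'a with h | h
        · rw [inv_mul_eq_one] at h; exact Or.inl h.symm
        · rw [inv_mul_eq_iff_eq_mul] at h; exact Or.inr h
    haveI : (zpowers z).Normal := ⟨fun x hx g => by
      obtain ⟨i, rfl⟩ := mem_zpowers_iff.1 hx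
      have hc : Commute g z := mem_center_iff.1 hzc g
      rw [(hc.zpow_right i).eq, mul_inv_cancel_right]
      exact hx⟩
    have hzp' : ∀ w : (P : Subgroup G), w ∈ zpowers z → w = 1 ∨ w = z := fun w hw => by
      obtain ⟨i, rfl⟩ := mem_zpowers_iff.1 hw
      exact (hzp _ ⟨i, rfl⟩).imp (fun h => Subtype.ext (by simpa using h))
        (fun h => Subtype.ext (by simpa using h))
    by_cases hex : ∃ m : G, ∃ hm : m ∈ normalizer ((P : Subgroup G) : Set G), Odd (orderOf m) ∧
        ∃ x, x⁻¹ * conjP (P : Subgroup G) m hm x ∉ zpowers z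
    · obtain ⟨m, hm, hodd, x₁, hx₁⟩ := hex
      set φ := conjP (P : Subgroup G) m hm with hφ
      have hφz : φ z = z := Subtype.ext (hzN m hm)
      have hφw : ∀ w ∈ zpowers z, φ w = w := fun w hw => by
        rcases hzp' w hw with rfl | rfl
        exacts [map_one φ, hφz]
      let B : Subgroup (P : Subgroup G) :=
        ((QuotientGroup.mk' (zpowers z)).comp φ.toMonoidHom).eqLocus (QuotientGroup.mk' (zpowers z))
      have hB : ∀ x, x ∈ B ↔ x⁻¹ * φ x ∈ zpowers z := fun x => by
        rw [← QuotientGroup.eq (s := zpowers z), eq_comm]; rfl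
      have h4 := four_le_index_fix P.isPGroup' φ hodd (conjP_pow_orderOf _ _ _) (zpowers z) hφw B hB
        fun htop => hx₁ ((hB x₁).1 (htop ▸ mem_top x₁))
      let σ : Equiv.Perm (ConjClasses (P : Subgroup G)) :=
        { toFun := ConjClasses.map φ.toMonoidHom
          invFun := ConjClasses.map φ.symm.toMonoidHom
          left_inv := fun c => by
            obtain ⟨a, rfl⟩ := ConjClasses.mk_surjective c
            exact congrArg ConjClasses.mk (φ.symm_apply_apply a)
          right_inv := fun c => by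
            obtain ⟨a, rfl⟩ := ConjClasses.mk_surjective c
            exact congrArg ConjClasses.mk (φ.apply_symm_apply a) }
      have hσmk : ∀ a, σ (ConjClasses.mk a) = ConjClasses.mk (φ a) := fun a => rfl
      have hσo : σ ^ orderOf m = 1 := by
        have key : ∀ j a, (σ ^ j) (ConjClasses.mk a) = ConjClasses.mk ((φ ^ j) a) := by
          intro j
          induction j with
          | zero => intro a; rfl
          | succ j ih => intro a; rw [pow_succ, Equiv.Perm.mul_apply, hσmk, ih, pow_succ, MulAut.mul_apply]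
        ext c
        obtain ⟨a, rfl⟩ := ConjClasses.mk_surjective c
        rw [key, hφ, conjP_pow_orderOf]
        rfl
      have hσf : ∀ c, cls (P : Subgroup G) (σ c) = cls (P : Subgroup G) c := by
        intro c
        obtain ⟨a, rfl⟩ := ConjClasses.mk_surjective c
        rw [hσmk, eq_comm, cls_eq_iff]
        exact ⟨m, rfl⟩
      obtain ⟨hineq, -⟩ := three_mul_card_range_le (cls (P : Subgroup G)) σ hodd hσo hσf
      -- every element outside `B` lies in a moved class
      have hmv : (B : Set (P : Subgroup G))ᶜ.ncard ≤ 2 * {c | σ c ≠ c}.ncard := by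
        cases nonempty_fintype (P : Subgroup G)
        haveI : Fintype (ConjClasses (P : Subgroup G)) := Fintype.ofFinite _
        rw [Set.ncard_eq_toFinset_card', Set.ncard_eq_toFinset_card']
        refine Finset.card_le_mul_card_image_of_maps_to (f := ConjClasses.mk) (fun x hx => ?_) 2
          fun c _ => ?_
        · rw [Set.mem_toFinset, Set.mem_compl_iff, SetLike.mem_coe] at hx
          rw [Set.mem_toFinset, Set.mem_setOf_eq, hσmk]
          intro h
          refine hx ((hB x).2 ?_)
          rcases hclass _ _ h.symm with e | e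
          · rw [e, inv_mul_cancel]; exact one_mem _
          · rw [e, ← mem_center_iff.1 hzc x, inv_mul_cancel_left]; exact mem_zpowers z
        · obtain ⟨a, rfl⟩ := ConjClasses.mk_surjective c
          refine (Finset.card_le_card (t := {a, z * a}) fun x hx => ?_).trans Finset.card_le_two
          simp only [Finset.mem_filter] at hx
          rcases hclass a x hx.2.symm with rfl | rfl <;> simp
      have hBc := Set.ncard_add_ncard_compl (B : Set (P : Subgroup G))
      rw [← Nat.card_coe_set_eq (B : Set (P : Subgroup G))] at hBc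
      have hB4 : Nat.card B * 4 ≤ Nat.card (P : Subgroup G) := by
        rw [← B.card_mul_index]; exact Nat.mul_le_mul_left _ h4
      have hBc' : Nat.card B + (B : Set (P : Subgroup G))ᶜ.ncard = Nat.card (P : Subgroup G) := hBc
      omega
    · push Not at hex
      have hf : Function.Injective (cls (P : Subgroup G)) := by
        intro c d h
        obtain ⟨a, rfl⟩ := ConjClasses.mk_surjective c
        obtain ⟨b, rfl⟩ := ConjClasses.mk_surjective d
        obtain ⟨n, hn, hnb⟩ := hfus a b ((cls_eq_iff _ a b).1 h)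
        obtain ⟨q, m, hq, hm, hodd, rfl⟩ := exists_odd_part P hn
        set q' : (P : Subgroup G) := ⟨q, hq⟩
        have hb' : b = a ∨ b = z * a := by
          have hval : ∀ c : (P : Subgroup G), q * m * (c : G) * (q * m)⁻¹ =
              ((q' * conjP (P : Subgroup G) m hm c * q'⁻¹ : (P : Subgroup G)) : G) := fun c => by
            show _ = q * (m * c * m⁻¹) * q⁻¹
            group
          have hmem : ∀ w ∈ zpowers z, ∀ w' ∈ zpowers z, w * w' ∈ zpowers z :=
            fun _ h _ h' => mul_mem h h'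
          have h1 : a⁻¹ * (q' * conjP (P : Subgroup G) m hm a * q'⁻¹) ∈ zpowers z := by
            obtain ⟨w, hw, he⟩ : ∃ w ∈ zpowers z, conjP (P : Subgroup G) m hm a = a * w :=
              ⟨_, hex m hm hodd a, (mul_inv_cancel_left _ _).symm⟩
            rw [he]
            rcases hcomm q' a with hc | hc <;> rw [commutatorElement_def] at hc
            · rw [mul_inv_eq_one] at hc
              rcases hzp' w hw with rfl | rfl
              · rw [mul_one, hc, inv_mul_cancel]; exact one_mem _
              · rw [show q' * (a * w) * q'⁻¹ = q' * a * q'⁻¹ * (q' * w * q'⁻¹) by group, hc,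
                  inv_mul_cancel_left, mem_center_iff.1 hzc q', mul_inv_cancel_right]
                exact hw
            · have he2 : q' * a * q'⁻¹ = z * a := mul_inv_eq_iff_eq_mul.1 hc
              rw [show q' * (a * w) * q'⁻¹ = q' * a * q'⁻¹ * (q' * w * q'⁻¹) by group, he2]
              have hwc : q' * w * q'⁻¹ = w := by
                rcases hzp' w hw with rfl | rfl
                · group
                · rw [mem_center_iff.1 hzc q', mul_inv_cancel_right]
              rw [hwc, ← mem_center_iff.1 hzc a, mul_assoc a z w, inv_mul_cancel_left]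
              exact mul_mem (mem_zpowers z) hw
          have h2 : a⁻¹ * b ∈ zpowers z := by
            rcases hnb with e | e
            · rw [hval] at e
              rwa [← Subtype.ext e] at h1
            · rw [hval] at e
              have e' : b = q' * conjP (P : Subgroup G) m hm a * q'⁻¹ * z := Subtype.ext e
              rw [e', ← mul_assoc]
              exact mul_mem h1 (mem_zpowers z)
          rcases hzp' _ h2 with e | e
          · left; exact (inv_mul_eq_one.1 e).symm
          · right; rw [inv_mul_eq_iff_eq_mul.1 e, mem_center_iff.1 hzc a]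
        rcases hb' with rfl | rfl
        · rfl
        by_cases ha : a ∈ center (P : Subgroup G)
        · exfalso
          obtain ⟨g, hg⟩ := (cls_eq_iff _ a (z * a)).1 h
          have hg' : g * (a : G) * g⁻¹ = a * z := by
            rw [hg, Subgroup.coe_mul, hzG]
          refine hz1 (Subtype.ext (central_not_fused P hz2' hzN (hcent ha) ?_ hg'))
          rw [hg]; exact hcent (mul_mem hzc ha)
        · rw [ConjClasses.mk_eq_mk_iff_isConj, isConj_iff]
          obtain ⟨g, hg⟩ : ∃ g, g * a ≠ a * g := by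
            by_contra hh; push Not at hh; exact ha (mem_center_iff.2 hh)
          refine ⟨g, ?_⟩
          rcases hcomm g a with e | e
          · exact absurd (commutatorElement_eq_one_iff_mul_comm.1 e) hg
          · rw [← e, commutatorElement_def]; group
      rw [Set.ncard_range_of_injective hf] at hk
      omega
  -- `z` is fused to `u`; move the fusion into `P`
  set u : G := g₀ * (z : G) * g₀⁻¹ with hu
  obtain ⟨hh, hhz, hhT⟩ : ∃ h : G, h * u * h⁻¹ = z ∧
      ∀ x : (P : Subgroup G), (x : G) * u = u * x → h * (x : G) * h⁻¹ ∈ (P : Subgroup G) := by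
    set C := centralizer ({(z : G)} : Set G)
    have hPC : (P : Subgroup G) ≤ C := fun x hx => mem_centralizer_singleton_iff.2 (hcent hzc x hx)
    set R : Subgroup G := ((P : Subgroup G) ⊓ centralizer ({u} : Set G)).map
      (MulAut.conj g₀⁻¹).toMonoidHom with hR
    have hRC : R ≤ C := by
      rintro _ ⟨x, ⟨-, hxu⟩, rfl⟩
      have h1 := mem_centralizer_singleton_iff.1 hxu
      refine mem_centralizer_singleton_iff.2 ?_
      show g₀⁻¹ * x * g₀⁻¹⁻¹ * z = z * (g₀⁻¹ * x * g₀⁻¹⁻¹)
      rw [inv_inv]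
      calc g₀⁻¹ * x * g₀ * z = g₀⁻¹ * (x * u) * g₀ := by rw [hu]; group
        _ = g₀⁻¹ * (u * x) * g₀ := by rw [h1]
        _ = z * (g₀⁻¹ * x * g₀) := by rw [hu]; group
    have hR2 : IsPGroup 2 (R.subgroupOf C) :=
      ((P.isPGroup'.to_le inf_le_left).map _).comap_of_injective C.subtype C.subtype_injective
    obtain ⟨Q, hQ⟩ := hR2.exists_le_sylow
    obtain ⟨c, hc⟩ := MulAction.exists_smul_eq C Q (P.subtype hPC)
    refine ⟨(c : G) * g₀⁻¹, ?_, fun x hx => ?_⟩
    · have h1 : (c : G) * z = z * c := mem_centralizer_singleton_iff.1 c.2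
      rw [hu, show (c : G) * g₀⁻¹ * (g₀ * z * g₀⁻¹) * ((c : G) * g₀⁻¹)⁻¹ = c * z * (c : G)⁻¹ by group,
        h1, mul_inv_cancel_right]
    · have hxR : g₀⁻¹ * (x : G) * g₀ ∈ R :=
        ⟨x, ⟨x.2, mem_centralizer_singleton_iff.2 hx⟩, by simp⟩
      have hy : (⟨_, hRC hxR⟩ : C) ∈ (Q : Subgroup C) := hQ (mem_subgroupOf.2 hxR)
      have h2 : c * ⟨_, hRC hxR⟩ * c⁻¹ ∈ ((c • Q : Sylow 2 C) : Subgroup C) := by
        rw [Sylow.coe_subgroup_smul]
        exact ⟨_, hy, rfl⟩
      rw [hc, Sylow.coe_subtype, mem_subgroupOf] at h2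
      convert h2 using 1
      simp [mul_assoc]
  -- the central elements staying central
  have huZ : ∀ t : (P : Subgroup G), t ∈ center (P : Subgroup G) → (t : G) * u = u * t :=
    fun t ht => (hcent ht u hg₀P).symm
  let ψ : center (P : Subgroup G) →* (P : Subgroup G) :=
    MonoidHom.mk' (fun t => ⟨hh * ((t : (P : Subgroup G)) : G) * hh⁻¹, hhT _ (huZ _ t.2)⟩)
      fun t t' => Subtype.ext (show hh * (((t : (P : Subgroup G)) : G) * (t' : (P : Subgroup G))) * hh⁻¹ =
        hh * ((t : (P : Subgroup G)) : G) * hh⁻¹ * (hh * ((t' : (P : Subgroup G)) : G) * hh⁻¹) by group)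
  set T0 := (center (P : Subgroup G)).comap ψ with hT0
  set zc : center (P : Subgroup G) := ⟨z, hzc⟩
  have hzT0 : zc ∉ T0 := by
    intro hmem
    obtain ⟨n, hn, hn2⟩ := exists_normalizer_of_central P (g := hh) (hcent hzc) (hcent hmem)
    rw [hzN n hn] at hn2
    refine hg₀ ?_
    have := hhz.trans hn2
    simp only [mul_left_inj, mul_right_inj] at this
    exact this
  let T1 : Set (center (P : Subgroup G)) :=
    {t | ∃ x : (P : Subgroup G), x ∉ center (P : Subgroup G) ∧
      cls (P : Subgroup G) (ConjClasses.mk (t : (P : Subgroup G))) = cls _ (ConjClasses.mk x)}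
  have hψ : ∀ t : center (P : Subgroup G),
      cls (P : Subgroup G) (ConjClasses.mk (t : (P : Subgroup G))) = cls _ (ConjClasses.mk (ψ t)) :=
    fun t => (cls_eq_iff _ _ _).2 ⟨hh, rfl⟩
  have hsub : (T0 : Set (center (P : Subgroup G)))ᶜ ⊆ T1 := fun t ht => ⟨ψ t, ht, hψ t⟩
  let U : Set (ConjClasses (P : Subgroup G)) :=
    ((fun t : center (P : Subgroup G) => ConjClasses.mk (t : (P : Subgroup G))) '' T1)ᶜ
  have himg : cls (P : Subgroup G) '' U = Set.range (cls (P : Subgroup G)) := by
    refine Set.Subset.antisymm (Set.image_subset_range _ _) ?_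
    rintro _ ⟨c, rfl⟩
    by_cases hc : c ∈ U
    · exact ⟨c, hc, rfl⟩
    · obtain ⟨t, ⟨x, hx, hxt⟩, rfl⟩ := not_not.1 hc
      refine ⟨ConjClasses.mk x, ?_, hxt.symm⟩
      rintro ⟨t', -, ht'⟩
      exact hx (eq_of_mk_eq_of_mem_center t'.2 ht' ▸ t'.2)
  have hUcard : U.ncard + T1.ncard = Nat.card (ConjClasses (P : Subgroup G)) := by
    rw [← Set.ncard_image_of_injective T1 (f := fun t : center (P : Subgroup G) =>
      ConjClasses.mk (t : (P : Subgroup G)))
      (fun t t' h => Subtype.ext (eq_of_mk_eq_of_mem_center t.2 h).symm), add_comm]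
    exact Set.ncard_add_ncard_compl _
  have hle := Set.ncard_image_le (f := cls (P : Subgroup G)) (Set.toFinite U)
  rw [himg] at hle
  have hT0c := Set.ncard_add_ncard_compl (T0 : Set (center (P : Subgroup G)))
  rw [← Nat.card_coe_set_eq (T0 : Set (center (P : Subgroup G)))] at hT0c
  have hT0c' : Nat.card T0 + (T0 : Set (center (P : Subgroup G)))ᶜ.ncard =
      Nat.card (center (P : Subgroup G)) := hT0c
  have hsub' := Set.ncard_le_ncard hsub (Set.toFinite _)
  have hT0idx : 2 ≤ T0.index := by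
    have h0 : T0.index ≠ 0 := index_ne_zero_of_finite
    have h1 : T0.index ≠ 1 := fun h => hzT0 (index_eq_one.1 h ▸ mem_top _)
    omega
  have hT0le : Nat.card T0 * 2 ≤ Nat.card (center (P : Subgroup G)) := by
    rw [← T0.card_mul_index]; exact Nat.mul_le_mul_left _ hT0idx
  have hT0two : T0.index = 2 := by
    have h1 := T0.card_mul_index
    have h2 : Nat.card T0 * 2 = Nat.card (center (P : Subgroup G)) := by omega
    exact Nat.eq_of_mul_eq_mul_left Nat.card_pos (h1.trans h2.symm)
  have hT1eq : T1 = (T0 : Set (center (P : Subgroup G)))ᶜ :=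
    (Set.eq_of_subset_of_ncard_le hsub (by omega) (Set.toFinite _)).symm
  have hinjU : Set.InjOn (cls (P : Subgroup G)) U :=
    Set.injOn_of_ncard_image_eq (by rw [himg]; omega) (Set.toFinite U)
  -- consequences
  have hUnc : ∀ x : (P : Subgroup G), x ∉ center (P : Subgroup G) → ConjClasses.mk x ∈ U := by
    rintro x hx ⟨t, -, ht⟩
    exact hx (eq_of_mk_eq_of_mem_center t.2 ht ▸ t.2)
  have hU0 : ∀ t ∈ T0, ConjClasses.mk ((t : center (P : Subgroup G)) : (P : Subgroup G)) ∈ U := by
    rintro t ht ⟨t', ht', h'⟩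
    rw [hT1eq] at ht'
    exact ht' ((Subtype.ext (eq_of_mk_eq_of_mem_center t'.2 h') : t = t') ▸ ht)
  have hψ0 : ∀ t ∈ T0, ψ t = t := by
    intro t ht
    have h1 : ConjClasses.mk (ψ t) ∈ U := hU0 ⟨ψ t, ht⟩ (by
      by_contra hn
      obtain ⟨x, hx, hxt⟩ := hsub hn
      have hin := hinjU (hUnc x hx) (hU0 t ht) (hxt.symm.trans (hψ t).symm)
      exact hx (eq_of_mk_eq_of_mem_center t.2 hin.symm ▸ t.2))
    exact eq_of_mk_eq_of_mem_center t.2 (hinjU (hU0 t ht) h1 (hψ t))
  -- the four-group
  set v : (P : Subgroup G) := ψ zc with hv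
  have hv2 : v * v = 1 := by
    rw [hv, ← map_mul, show zc * zc = 1 from Subtype.ext hz2, map_one]
  have hvz : v ≠ z := by
    intro h
    exact hzT0 (show ψ zc ∈ center (P : Subgroup G) by rw [← hv, h]; exact hzc)
  have hv1 : v ≠ 1 := fun h => hzT0 (show ψ zc ∈ center (P : Subgroup G) by
    rw [← hv, h]; exact one_mem _)
  have hzv : z * v = v * z := (mem_center_iff.1 hzc v).symm
  let V : Subgroup (P : Subgroup G) :=
    { carrier := {1, z, v, z * v}
      one_mem' := by simp
      mul_mem' := by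
        have h2 : z * (z * v) = v := by rw [← mul_assoc, hz2, one_mul]
        have h3 : v * (z * v) = z := by rw [← mul_assoc, ← hzv, mul_assoc, hv2, mul_one]
        have h4 : z * v * z = v := by rw [mul_assoc, ← hzv, h2]
        have h5 : z * v * v = z := by rw [mul_assoc, hv2, mul_one]
        have h6 : z * v * (z * v) = 1 := by rw [mul_assoc, h3, hz2]
        have h7 : v * z = z * v := hzv.symm
        rintro x y (rfl | rfl | rfl | rfl) (rfl | rfl | rfl | rfl) <;>
          simp [hz2, hv2, h2, h3, h4, h5, h6, h7]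
      inv_mem' := by
        have hzi : z⁻¹ = z := inv_eq_of_mul_eq_one_right hz2
        have hvi : v⁻¹ = v := inv_eq_of_mul_eq_one_right hv2
        rintro x (rfl | rfl | rfl | rfl) <;> simp [hzi, hvi, hzv.symm] }
  refine ⟨V.map (P : Subgroup G).subtype, map_subtype_le _, ?_, ?_, ⟨z, by simp [V], rfl⟩, ?_⟩
  · rw [← Nat.card_congr (V.equivMapOfInjective _ (P : Subgroup G).subtype_injective).toEquiv]
    show Nat.card ↥({1, z, v, z * v} : Set (P : Subgroup G)) = 4
    rw [Nat.card_coe_set_eq, Set.ncard_insert_of_notMem, Set.ncard_insert_of_notMem, Set.ncard_pair]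
    · exact fun e => hz1 (by simpa using e)
    · simp only [Set.mem_insert_iff, Set.mem_singleton_iff, not_or]
      exact ⟨Ne.symm hvz, fun e => hv1 (by simpa using e)⟩
    · simp only [Set.mem_insert_iff, Set.mem_singleton_iff, not_or]
      exact ⟨Ne.symm hz1, Ne.symm hv1, fun e => hvz
        (by rw [eq_inv_of_mul_eq_one_right e.symm, inv_eq_of_mul_eq_one_right hz2])⟩
  · rintro _ ⟨x, hx, rfl⟩
    rw [← map_mul]
    have : x * x = 1 := by
      rcases hx with rfl | rfl | rfl | rfl
      · exact one_mul 1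
      · exact hz2
      · exact hv2
      · rw [mul_assoc, ← mul_assoc v z v, ← hzv, mul_assoc z v v, hv2, mul_one, hz2]
    rw [this, map_one]
  · intro a ha g hg
    suffices key : ∀ x y : (P : Subgroup G),
        cls (P : Subgroup G) (ConjClasses.mk x) = cls _ (ConjClasses.mk y) → x⁻¹ * y ∈ V from
      ⟨_, key ⟨a, ha⟩ ⟨g * a * g⁻¹, hg⟩ ((cls_eq_iff _ _ _).2 ⟨g, rfl⟩), rfl⟩
    have hzV : z ∈ V := by simp [V]
    have nn : ∀ x y : (P : Subgroup G), x ∉ center (P : Subgroup G) → y ∉ center (P : Subgroup G) →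
        cls (P : Subgroup G) (ConjClasses.mk x) = cls _ (ConjClasses.mk y) → x⁻¹ * y ∈ V := by
      intro x y hx hy h
      rcases hclass x y (hinjU (hUnc x hx) (hUnc y hy) h) with e | e
      · rw [e, inv_mul_cancel]; exact one_mem V
      · rw [e, ← mem_center_iff.1 hzc x, inv_mul_cancel_left]; exact hzV
    have hψT1 : ∀ t, t ∉ T0 → ((t : center (P : Subgroup G)) : (P : Subgroup G))⁻¹ * ψ t ∈ V := by
      intro t ht
      have h1 : t * zc ∈ T0 := (mul_mem_iff_of_index_two hT0two).2 (by simp [ht, hzT0])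
      have h2 : ψ t = ψ (t * zc) * v := by
        rw [map_mul, ← hv, mul_assoc, hv2, mul_one]
      rw [h2, hψ0 _ h1, Subgroup.coe_mul, ← mul_assoc, inv_mul_cancel_left]
      exact mul_mem hzV (by simp [V])
    have cn : ∀ (t : center (P : Subgroup G)) (y : (P : Subgroup G)), y ∉ center (P : Subgroup G) →
        cls (P : Subgroup G) (ConjClasses.mk (t : (P : Subgroup G))) = cls _ (ConjClasses.mk y) →
        (t : (P : Subgroup G))⁻¹ * y ∈ V := by
      intro t y hy h
      have ht : t ∉ T0 := by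
        intro ht
        have : t ∈ T1 := ⟨y, hy, h⟩
        rw [hT1eq] at this
        exact this ht
      have h2 := nn (ψ t) y ht hy ((hψ t).symm.trans h)
      have := mul_mem (hψT1 t ht) h2
      rwa [mul_assoc, mul_inv_cancel_left] at this
    intro x y h
    by_cases hx : x ∈ center (P : Subgroup G) <;> by_cases hy : y ∈ center (P : Subgroup G)
    · by_cases hx0 : (⟨x, hx⟩ : center (P : Subgroup G)) ∈ T0
      · by_cases hy0 : (⟨y, hy⟩ : center (P : Subgroup G)) ∈ T0
        · have e : y = x := eq_of_mk_eq_of_mem_center hx (hinjU (hU0 _ hx0) (hU0 _ hy0) h)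
          rw [e, inv_mul_cancel]
          exact one_mem V
        · have := mul_mem (cn ⟨x, hx⟩ (ψ ⟨y, hy⟩) hy0 (h.trans (hψ ⟨y, hy⟩)))
            (inv_mem (hψT1 _ hy0))
          rwa [mul_inv_rev, inv_inv, mul_assoc, mul_inv_cancel_left] at this
      · have := mul_mem (hψT1 _ hx0) (inv_mem (cn ⟨y, hy⟩ (ψ ⟨x, hx⟩) hx0
          (h.symm.trans (hψ ⟨x, hx⟩))))
        rwa [mul_inv_rev, inv_inv, mul_assoc, mul_inv_cancel_left] at this
    · exact cn ⟨x, hx⟩ y hy h
    · have := inv_mem (cn ⟨y, hy⟩ x hx h.symm)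
      rwa [mul_inv_rev, inv_inv] at this
    · exact nn x y hx hy h

/-- **The focal four-group.** -/
theorem exists_four (P : Sylow 2 G) (hO : Cfsg.oddCore G = ⊥)
    (hk : 2 * (Set.range (cls (P : Subgroup G))).ncard = Nat.card (P : Subgroup G)) :
    ∃ V : Subgroup G, V ≤ P ∧ Nat.card V = 4 ∧ (∀ x ∈ V, x * x = 1) ∧
      (∀ a ∈ (P : Subgroup G), ∀ b ∈ (P : Subgroup G), ⁅a, b⁆ ∈ V) ∧
      (∀ a ∈ (P : Subgroup G), ∀ g : G, g * a * g⁻¹ ∈ (P : Subgroup G) →
        a⁻¹ * (g * a * g⁻¹) ∈ V) ∧ (P : Subgroup G) ≠ ⊤ := by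
  haveI : Fact (Nat.Prime 2) := ⟨Nat.prime_two⟩
  have h1 := four_mul_card_classes_le (P : Subgroup G)
  have h2 : (Set.range (cls (P : Subgroup G))).ncard ≤ Nat.card (ConjClasses (P : Subgroup G)) := by
    rw [← Set.image_univ, ← Set.ncard_univ]
    exact Set.ncard_image_le (Set.toFinite _)
  have hpos : 0 < Nat.card (P : Subgroup G) := Nat.card_pos
  have hc := (commutator (P : Subgroup G)).card_mul_index
  obtain ⟨j, hj⟩ := IsPGroup.iff_card.1 (P.isPGroup'.to_subgroup (commutator (P : Subgroup G)))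
  have hj1 : j ≤ 1 := by
    by_contra hj1
    have h4 : 4 ≤ Nat.card (commutator (P : Subgroup G)) := by
      rw [hj]; calc 4 = 2 ^ 2 := rfl
        _ ≤ _ := Nat.pow_le_pow_right two_pos (by omega)
    have : 4 * (commutator (P : Subgroup G)).index ≤ Nat.card (P : Subgroup G) := by
      rw [← hc]; exact Nat.mul_le_mul_right _ h4
    omega
  have hmem : ∀ a b : (P : Subgroup G), ⁅a, b⁆ ∈ commutator (P : Subgroup G) :=
    fun a b => commutator_mem_commutator (mem_top a) (mem_top b)
  have notTop : (P : Subgroup G) = ⊤ → Nat.card (ConjClasses (P : Subgroup G)) =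
      (Set.range (cls (P : Subgroup G))).ncard := by
    intro htop
    rw [Set.ncard_range_of_injective]
    intro c d h
    obtain ⟨x, rfl⟩ := ConjClasses.mk_surjective c
    obtain ⟨y, rfl⟩ := ConjClasses.mk_surjective d
    obtain ⟨g, hg⟩ := (cls_eq_iff _ x y).1 h
    rw [ConjClasses.mk_eq_mk_iff_isConj, isConj_iff]
    exact ⟨⟨g, htop ▸ mem_top g⟩, Subtype.ext hg⟩
  rcases Nat.le_one_iff_eq_zero_or_eq_one.1 hj1 with rfl | rfl
  · have hab : ∀ a b : (P : Subgroup G), Commute a b := fun a b => by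
      have hbot : commutator (P : Subgroup G) = ⊥ := Subgroup.card_eq_one.1 (by simpa using hj)
      have := hbot.le (hmem a b)
      exact commutatorElement_eq_one_iff_commute.1 (Subgroup.mem_bot.1 this)
    obtain ⟨V, hV, h4, hsq, hfoc⟩ := four_of_abelian P hk hab
    refine ⟨V, hV, h4, hsq, fun a ha b hb => ?_, hfoc, fun htop => ?_⟩
    · rw [show ⁅a, b⁆ = 1 from congrArg Subtype.val
        (commutatorElement_eq_one_iff_commute.2 (hab ⟨a, ha⟩ ⟨b, hb⟩))]
      exact one_mem V
    · have hbij : Nat.card (ConjClasses (P : Subgroup G)) = Nat.card (P : Subgroup G) :=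
        (Nat.card_eq_of_bijective ConjClasses.mk ⟨fun a b h => (eq_of_mk_eq_of_mem_center
          (mem_center_iff.2 fun x => (hab x a).eq) h).symm, ConjClasses.mk_surjective⟩).symm
      have := notTop htop
      omega
  · obtain ⟨z₀, hz₀⟩ := exists_prime_orderOf_dvd_card' (G := commutator (P : Subgroup G)) 2
      (by rw [hj]; norm_num)
    set z : (P : Subgroup G) := z₀.1
    have hz1 : z ≠ 1 := fun h => by
      rw [← orderOf_coe, show (z₀ : (P : Subgroup G)) = 1 from h, orderOf_one] at hz₀
      omega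
    have hall : ∀ w ∈ commutator (P : Subgroup G), w = 1 ∨ w = z := by
      intro w hw
      obtain ⟨p, q, -, hpq⟩ := Nat.card_eq_two_iff.1 (show Nat.card (commutator (P : Subgroup G)) = 2
        by simpa using hj)
      have hall' : ∀ x : commutator (P : Subgroup G), x = p ∨ x = q := fun x => by
        have := hpq.ge (Set.mem_univ x); simpa using this
      rcases hall' ⟨w, hw⟩ with e1 | e1 <;> rcases hall' z₀ with e2 | e2 <;>
        rcases hall' 1 with e3 | e3 <;>
        first
          | exact Or.inr (congrArg Subtype.val (e1.trans e2.symm))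
          | exact Or.inl (congrArg Subtype.val (e1.trans e3.symm))
          | exact absurd (congrArg Subtype.val (e2.trans e3.symm)) hz1
    have hcomm : ∀ a b : (P : Subgroup G), ⁅a, b⁆ = 1 ∨ ⁅a, b⁆ = z := fun a b => hall _ (hmem a b)
    have hne : ∃ a b : (P : Subgroup G), ⁅a, b⁆ = z := by
      by_contra hne
      push Not at hne
      have hbot : commutator (P : Subgroup G) = ⊥ := by
        rw [_root_.commutator_def, eq_bot_iff, commutator_le]
        intro a _ b _
        exact Subgroup.mem_bot.2 ((hcomm a b).resolve_right (hne a b))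
      rw [hbot, card_bot] at hj
      omega
    obtain ⟨V, hV, h4, hsq, hzV, hfoc⟩ := four_of_commutator_two P hO hk z hz1 hcomm hne
    refine ⟨V, hV, h4, hsq, fun a ha b hb => ?_, hfoc, fun htop => ?_⟩
    · rcases hcomm ⟨a, ha⟩ ⟨b, hb⟩ with h | h
      · rw [show ⁅a, b⁆ = 1 from congrArg Subtype.val h]; exact one_mem V
      · rw [show ⁅a, b⁆ = z from congrArg Subtype.val h]; exact hzV
    · have := two_mul_card_classes z hcomm
      have := notTop htop
      have : 0 < Nat.card (center (P : Subgroup G)) := Nat.card_pos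
      omega

end CfsgLib.HalfClasses
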