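import Cfsg.Agent.HalfClasses.Fusion
import Cfsg.Agent.GWQuasi.Basic
import Cfsg.Agent.Transfer.Residual

/-!
# The structure when the 2-elements fall into half as many classes as the Sylow order

Given the Gorenstein–Walter theorem for simple groups, `G/Z(G)` is `A₄`, `S₄`, or has a normal
`PSL₂(q)`, `q ≡ 3, 5 (mod 8)`, with trivial centralizer.
-/

set_option autoImplicit false
set_option linter.unusedSectionVars false
set_option linter.style.haveILetI false

namespace CfsgLib.HalfClasses

open Subgroup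
open scoped commutatorElement

universe u

/-- The order of `PSL₂(q)` is divisible by `8` unless `q ≡ 3, 5 (mod 8)`. -/
theorem mod_eight_of_not_dvd {F : Type} [Field F] [Fintype F] (hodd : Odd (Fintype.card F))
    (h : ¬ 8 ∣ Nat.card (Matrix.ProjectiveSpecialLinearGroup (Fin 2) F)) :
    Fintype.card F % 8 = 3 ∨ Fintype.card F % 8 = 5 := by
  have hcardSL : Nat.card (Matrix.SpecialLinearGroup (Fin 2) F) =
      2 * Nat.card (Matrix.ProjectiveSpecialLinearGroup (Fin 2) F) := by
    rw [← (Subgroup.center (Matrix.SpecialLinearGroup (Fin 2) F)).card_mul_index]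
    congr 1
    rw [Linear.card_center_SL, Fintype.card_fin]
    have he : 2 ∣ Fintype.card F - 1 := by
      obtain ⟨j, hj⟩ := hodd; exact ⟨j, by omega⟩
    exact Nat.gcd_eq_left he
  rw [Linear.card_SL_two] at hcardSL
  generalize Nat.card (Matrix.ProjectiveSpecialLinearGroup (Fin 2) F) = c at h hcardSL
  generalize Fintype.card F = q at hodd hcardSL ⊢
  by_contra hcon
  push Not at hcon
  obtain ⟨j, hj⟩ := hodd
  refine h ?_
  have h16 : 16 ∣ q ^ 2 - 1 := by
    have hm : q % 8 = 1 ∨ q % 8 = 7 := by omega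
    rcases hm with hm | hm
    · obtain ⟨e, rfl⟩ : ∃ e, q = 8 * e + 1 := ⟨q / 8, by omega⟩
      exact ⟨4 * e * e + e, by ring_nf; omega⟩
    · obtain ⟨e, rfl⟩ : ∃ e, q = 8 * e + 7 := ⟨q / 8, by omega⟩
      exact ⟨4 * e * e + 7 * e + 3, by ring_nf; omega⟩
  obtain ⟨e, he⟩ := h16
  rw [he] at hcardSL
  exact ⟨q * e, by
    have : 2 * c = 2 * (8 * (q * e)) := by rw [← hcardSL]; ring
    omega⟩

variable {G : Type u} [Group G] [Finite G]

/-- **The theorem.** -/
theorem structure_of_half (h : ∀ m, GW.SimpleHyp.{u} m) (P : Sylow 2 G)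
    (hO : Cfsg.pPrimeCore 2 G = ⊥)
    (hk : 2 * Nat.card {c : ConjClasses G // ∀ x ∈ c.carrier, ∃ k : ℕ, orderOf x = 2 ^ k} =
      Nat.card ↥(P : Subgroup G)) :
    Nonempty (G ⧸ center G ≃* ↥(alternatingGroup (Fin 4))) ∨
      Nonempty (G ⧸ center G ≃* Equiv.Perm (Fin 4)) ∨
      ∃ S : Subgroup (G ⧸ center G), S.Normal ∧ IsSimpleGroup ↥S ∧ ¬ IsMulCommutative ↥S ∧
        centralizer (S : Set (G ⧸ center G)) = ⊥ ∧
        ∃ (F : Type) (_ : Field F) (_ : Fintype F),
          3 < Fintype.card F ∧ (Fintype.card F % 8 = 3 ∨ Fintype.card F % 8 = 5) ∧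
          Nonempty (↥S ≃* Matrix.ProjectiveSpecialLinearGroup (Fin 2) F) := by
  classical
  haveI : Fact (Nat.Prime 2) := ⟨Nat.prime_two⟩
  -- the classes are the image of the classes of `P`
  have hrange : {c : ConjClasses G | ∀ x ∈ c.carrier, ∃ k : ℕ, orderOf x = 2 ^ k} =
      Set.range (cls (P : Subgroup G)) := by
    ext c
    obtain ⟨x, rfl⟩ := ConjClasses.mk_surjective c
    constructor
    · intro hx
      obtain ⟨k, hk'⟩ := hx x ConjClasses.mem_carrier_mk
      obtain ⟨Q, hQ⟩ := (IsPGroup.of_card (n := k) (show Nat.card (zpowers x) = 2 ^ k by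
        rw [Nat.card_zpowers, hk'])).exists_le_sylow
      obtain ⟨g, hg⟩ := MulAction.exists_smul_eq G Q P
      have hx' : g * x * g⁻¹ ∈ (P : Subgroup G) := by
        rw [← hg, Sylow.coe_subgroup_smul]
        exact ⟨x, hQ (mem_zpowers x), rfl⟩
      exact ⟨ConjClasses.mk ⟨_, hx'⟩, ConjClasses.mk_eq_mk_iff_isConj.2
        (isConj_iff.2 ⟨g, rfl⟩ : IsConj x (g * x * g⁻¹)).symm⟩
    · rintro ⟨d, hd⟩ y hy
      obtain ⟨a, rfl⟩ := ConjClasses.mk_surjective d
      rw [ConjClasses.mem_carrier_iff_mk_eq, ← hd, cls_mk, ConjClasses.mk_eq_mk_iff_isConj] at hy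
      obtain ⟨k, hk'⟩ := IsPGroup.iff_card.1 (P.isPGroup'.to_subgroup (zpowers a))
      refine ⟨k, ?_⟩
      obtain ⟨g, hg⟩ := isConj_iff.1 hy
      rw [← hk', Nat.card_zpowers, ← orderOf_coe a, ← hg,
        ← MulAut.conj_apply, MulEquiv.orderOf_eq]
  have hk' : 2 * (Set.range (cls (P : Subgroup G))).ncard = Nat.card (P : Subgroup G) := by
    rw [← hrange, ← Nat.card_coe_set_eq]; exact hk
  obtain ⟨V, hVP, hV4, hVsq, hVcomm, hfoc, hPtop⟩ := exists_four P hO hk'
  -- the focal subgroup theorem
  have hfocal : commutator G ⊓ (P : Subgroup G) ≤ V := by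
    rw [commutator_inf_eq_focalSubgroup P, focalSubgroup_def, closure_le]
    rintro _ ⟨hgP, x, hx, u, rfl⟩
    have hu : u * x⁻¹ * u⁻¹ ∈ (P : Subgroup G) := by
      have := mul_mem (inv_mem hx) hgP
      simpa [commutatorElement_def, mul_assoc] using this
    have := hfoc x⁻¹ (inv_mem hx) u hu
    simpa [commutatorElement_def, mul_assoc] using this
  set K := Cfsg.pResidual 2 G with hKdef
  have hKP : (P : Subgroup G) ⊓ K ≤ V := by
    rintro x ⟨hxP, hxK⟩
    refine hfocal ⟨?_, hxP⟩
    have hodd : Odd (orderOf (Abelianization.of x)) := by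
      clear hxP
      rw [SetLike.mem_coe, hKdef, Cfsg.pResidual] at hxK
      induction hxK using closure_induction with
      | mem y hy => exact (Nat.coprime_two_right.1 hy).of_dvd_nat (orderOf_map_dvd _ _)
      | one => simp
      | mul a b _ _ ha hb =>
        rw [map_mul]
        exact (ha.mul hb).of_dvd_nat ((Commute.all _ _).orderOf_mul_dvd_mul_orderOf)
      | inv a _ ha => rwa [map_inv, orderOf_inv]
    obtain ⟨k, hk2⟩ := P.isPGroup' ⟨x, hxP⟩
    have h2 : orderOf (Abelianization.of x) ∣ 2 ^ k :=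
      (orderOf_map_dvd _ _).trans (orderOf_dvd_of_pow_eq_one (congrArg Subtype.val hk2))
    have h1 : orderOf (Abelianization.of x) = 1 :=
      Nat.eq_one_of_dvd_coprimes ((Nat.coprime_two_right.2 hodd).pow_right k) dvd_rfl h2
    rwa [orderOf_eq_one_iff, ← MonoidHom.mem_ker, Abelianization.ker_of] at h1
  haveI hKn : K.Normal := inferInstance
  obtain ⟨PK, hPK⟩ := GWQuasi.exists_sylow_subgroupOf P K
  let ePK : (PK : Subgroup K) ≃* ((P : Subgroup G) ⊓ K : Subgroup G) :=
    ((MulEquiv.subgroupCongr hPK).trans (((P : Subgroup G).subgroupOf K).equivMapOfInjective _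
      K.subtype_injective)).trans (MulEquiv.subgroupCongr (subgroupOf_map_subtype _ _))
  have hOK : Cfsg.oddCore ↥K = ⊥ := by
    have h1 := CfsgLib.PLocal.pPrimeCore_map_subtype_le (p := 2) K
    rw [hO] at h1
    exact (Subgroup.map_eq_bot_iff_of_injective _ K.subtype_injective).1 (le_bot_iff.1 h1)
  have hnot2 : ¬ IsPGroup 2 K := by
    intro h2
    refine hPtop (eq_top_iff.2 ?_)
    rw [← Transfer.sylow_sup_pResidual P]
    exact sup_le le_rfl ((CfsgLib.PLocal.le_pCore h2).trans (CfsgLib.PLocal.pCore_le_sylow P))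
  have hVK : (P : Subgroup G) ⊓ K = V := by
    refine eq_of_le_of_card_ge hKP ?_
    rw [hV4]
    by_contra hlt
    push Not at hlt
    obtain ⟨k, hk2⟩ := IsPGroup.iff_card.1 PK.isPGroup'
    have hk1 : k ≤ 1 := by
      by_contra hk1
      have : 2 ^ 2 ≤ 2 ^ k := Nat.pow_le_pow_right two_pos (by omega)
      rw [Nat.card_congr ePK.toEquiv] at hk2
      omega
    refine hnot2 (GW.isPGroup_of_cyclic_sylow PK ?_ hOK)
    rcases Nat.le_one_iff_eq_zero_or_eq_one.1 hk1 with rfl | rfl
    · haveI : Subsingleton (PK : Subgroup K) := (Nat.card_eq_one_iff_unique.1 (by simpa using hk2)).1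
      exact isCyclic_of_subsingleton
    · exact isCyclic_of_prime_card (p := 2) (by simpa using hk2)
  have hV4K : Nat.card (PK : Subgroup K) = 4 := by
    rw [Nat.card_congr ePK.toEquiv, hVK, hV4]
  haveI : Nontrivial (PK : Subgroup K) := Finite.one_lt_card_iff_nontrivial.1 (by omega)
  haveI : IsKleinFour (PK : Subgroup K) := ⟨hV4K, (Monoid.exponent_eq_prime_iff Nat.prime_two).2
    fun x hx => by
      refine Small.orderOf_eq_two_iff_sq.2 ⟨hx, ePK.injective ?_⟩
      rw [map_mul, map_one]
      exact Subtype.ext (hVsq _ (hVK ▸ (ePK x).2))⟩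
  obtain ⟨eD⟩ := IsKleinFour.nonempty_mulEquiv (G₁ := (PK : Subgroup K)) (G₂ := DihedralGroup 2)
  have h8 : ¬ 8 ∣ Nat.card K := by
    rintro ⟨c, hc⟩
    have h1 := (PK : Subgroup K).card_mul_index
    rw [hV4K, hc] at h1
    exact PK.not_dvd_index ⟨c, by omega⟩
  have hPc : (P : Subgroup G) ⊔ K = ⊤ := Transfer.sylow_sup_pResidual P
  -- centralizers meeting `K` trivially are the centre
  have hcen : ∀ M : Subgroup G, M.Normal → M ≤ K → centralizer (M : Set G) ⊓ K = ⊥ →
      centralizer (M : Set G) = center G := by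
    intro M hM hMK hbot
    haveI := hM
    refine le_antisymm ?_ (center_le_centralizer _)
    set C := centralizer (M : Set G)
    have hC2 : IsPGroup 2 C := by
      refine (Transfer.isPGroup_quotient_pResidual (p := 2) (G := G)).of_injective
        ((QuotientGroup.mk' K).comp C.subtype) ((injective_iff_map_eq_one _).2 fun x hx => ?_)
      have : (x : G) ∈ C ⊓ K := ⟨x.2, (QuotientGroup.eq_one_iff _).1 hx⟩
      rw [hbot, Subgroup.mem_bot] at this
      exact Subtype.ext this
    have hCP : C ≤ (P : Subgroup G) := (CfsgLib.PLocal.le_pCore hC2).trans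
      (CfsgLib.PLocal.pCore_le_sylow P)
    intro c hc
    rw [mem_center_iff]
    have htop : centralizer ({c} : Set G) = ⊤ := by
      rw [eq_top_iff, ← hPc]
      refine sup_le (fun x hx => mem_centralizer_singleton_iff.2 ?_)
        (fun x hx => mem_centralizer_singleton_iff.2 ?_)
      · rw [← commutatorElement_eq_one_iff_mul_comm, ← Subgroup.mem_bot, ← hbot]
        refine ⟨?_, ?_⟩
        · show ⁅x, c⁆ ∈ C
          rw [commutatorElement_def]
          exact mul_mem ((inferInstance : C.Normal).conj_mem c hc x) (inv_mem hc)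
        · exact (hVK.ge.trans inf_le_right) (hVcomm x hx c (hCP hc))
      · rw [← commutatorElement_eq_one_iff_mul_comm, ← Subgroup.mem_bot, ← hbot]
        refine ⟨?_, ?_⟩
        · show ⁅x, c⁆ ∈ C
          rw [commutatorElement_def]
          exact mul_mem ((inferInstance : C.Normal).conj_mem c hc x) (inv_mem hc)
        · rw [show ⁅x, c⁆ = x * (c * x⁻¹ * c⁻¹) by rw [commutatorElement_def]; group]
          exact mul_mem hx (hKn.conj_mem _ (inv_mem hx) c)
    exact fun g => mem_centralizer_singleton_iff.1 (htop.ge (mem_top g))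
  rcases GW.knownCore_of_simpleHyp (GW.dihType_of_sylow PK eD) hOK (h _) with h2 | h4 | h4 |
      ⟨L, hLn, hL, hLc⟩
  · exact absurd h2 hnot2
  · -- `A₄`
    obtain ⟨e4⟩ := h4
    have hZK : ∀ b : K, (∀ a : K, a * b = b * a) → b = 1 := by
      intro b hb
      rw [← MulEquiv.map_eq_one_iff e4]
      have hc : ∀ a : alternatingGroup (Fin 4), a * e4 b = e4 b * a := fun a => by
        obtain ⟨y, rfl⟩ := e4.surjective a
        rw [← map_mul, ← map_mul, hb y]
      revert hc
      generalize e4 b = b'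
      revert b'
      decide +kernel
    have hbot : centralizer (K : Set G) ⊓ K = ⊥ := by
      rw [eq_bot_iff]
      rintro x ⟨hx, hxK⟩
      exact congrArg Subtype.val (hZK ⟨x, hxK⟩ fun a => Subtype.ext (mem_centralizer_iff.1 hx a a.2))
    have hC := hcen K hKn le_rfl hbot
    let eA := MulEquiv.ofBijective _
      (CfsgLib.AutAlt.conjNormal_bijective (α := Fin 4) (by decide) (by decide))
    let f : G →* Equiv.Perm (Fin 4) := eA.symm.toMonoidHom.comp
      ((MulAut.congr e4).toMonoidHom.comp (MulAut.conjNormal (H := K)))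
    have hker : center G = f.ker := by
      rw [← hC]
      ext x
      rw [MonoidHom.mem_ker, mem_centralizer_iff]
      have h1 : f x = 1 ↔ (MulAut.conjNormal x : MulAut K) = 1 :=
        (MulEquiv.map_eq_one_iff eA.symm).trans (MulEquiv.map_eq_one_iff (MulAut.congr e4))
      rw [h1]
      refine ⟨fun hx => MulEquiv.ext fun k => Subtype.ext ?_, fun hx y hy => ?_⟩
      · rw [MulAut.conjNormal_apply, ← hx k k.2, mul_inv_cancel_right]; rfl
      · have := congrArg Subtype.val (DFunLike.congr_fun hx ⟨y, hy⟩)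
        rw [MulAut.conjNormal_apply] at this
        exact (mul_inv_eq_iff_eq_mul.1 this).symm
    let eR : G ⧸ center G ≃* f.range :=
      (QuotientGroup.quotientMulEquivOfEq hker).trans (QuotientGroup.quotientKerEquivRange f)
    have h12 : 12 ∣ Nat.card f.range := by
      have hcK : Nat.card K = 12 := by
        rw [Nat.card_congr e4.toEquiv, nat_card_alternatingGroup, Nat.card_fin]; rfl
      have hinj : Function.Injective (f.rangeRestrict.comp K.subtype) := by
        refine (injective_iff_map_eq_one _).2 fun x hx => ?_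
        have h1 : (x : G) ∈ center G := hker ▸ MonoidHom.mem_ker.2 (congrArg Subtype.val hx)
        exact Subtype.ext (Subgroup.mem_bot.1
          (hbot ▸ ⟨center_le_centralizer _ h1, x.2⟩ : (x : G) ∈ (⊥ : Subgroup G)))
      exact hcK ▸ Subgroup.card_dvd_of_injective _ hinj
    have h24 : Nat.card (Equiv.Perm (Fin 4)) = 24 := by rw [Nat.card_perm, Nat.card_fin]; rfl
    have hidx : f.range.index = 1 ∨ f.range.index = 2 := by
      obtain ⟨c, hc⟩ := h12
      have h1 := f.range.card_mul_index
      rw [hc, h24, mul_assoc] at h1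
      have h2 : c * f.range.index = 2 := Nat.eq_of_mul_eq_mul_left (by norm_num : 0 < 12) h1
      exact (Nat.dvd_prime Nat.prime_two).1 (Dvd.intro_left _ h2)
    rcases hidx with h1 | h1
    · exact Or.inr (Or.inl ⟨eR.trans ((MulEquiv.subgroupCongr (index_eq_one.1 h1)).trans topEquiv)⟩)
    · exact Or.inl ⟨eR.trans (MulEquiv.subgroupCongr
        (Equiv.Perm.eq_alternatingGroup_of_index_eq_two h1))⟩
  · exfalso
    obtain ⟨e4⟩ := h4
    refine h8 ?_
    rw [Nat.card_congr e4.toEquiv, Nat.card_perm, Nat.card_fin]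
    decide
  · rcases hL with ⟨F, iF, iT, hodd, h3, ⟨eL⟩⟩ | ⟨⟨eL⟩⟩
    swap
    · exfalso
      refine h8 (dvd_trans ?_ L.card_subgroup_dvd_card)
      rw [Nat.card_congr eL.toEquiv, nat_card_alternatingGroup, Nat.card_fin]
      decide
    refine Or.inr (Or.inr ?_)
    haveI : IsSimpleGroup (Matrix.ProjectiveSpecialLinearGroup (Fin 2) F) :=
      Linear.isSimpleGroup_PSL_of 2 le_rfl fun _ => by omega
    haveI : Nontrivial L := eL.toEquiv.nontrivial
    haveI : IsSimpleGroup L :=
      IsSimpleGroup.isSimpleGroup_of_surjective eL.symm.toMonoidHom eL.symm.surjective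
    haveI := hLn
    have hnab : ¬ IsMulCommutative L := fun hab => by
      refine (Nontrivial.exists_pair_ne (α := L)).elim fun a ⟨b, hne⟩ => ?_
      have hle : L ≤ centralizer (L : Set K) := fun x hx => mem_centralizer_iff.2 fun y hy =>
        congrArg Subtype.val (hab.is_comm.comm ⟨y, hy⟩ ⟨x, hx⟩)
      rw [hLc, le_bot_iff] at hle
      exact hne (Subtype.ext ((Subgroup.mem_bot.1 (hle ▸ a.2 : (a : K) ∈ (⊥ : Subgroup K))).trans
        (Subgroup.mem_bot.1 (hle ▸ b.2 : (b : K) ∈ (⊥ : Subgroup K))).symm))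
    set M := L.map K.subtype
    have hMn : M.Normal := ⟨by
      rintro _ ⟨x, hx, rfl⟩ g
      set a : MulAut K := MulAut.conjNormal g
      haveI hn : (L.map a.toMonoidHom).Normal := hLn.map _ a.surjective
      have hle : L ≤ L.map a.toMonoidHom := by
        rcases IsSimpleGroup.eq_bot_or_eq_top_of_normal ((L.map a.toMonoidHom).subgroupOf L)
          inferInstance with h1 | h1
        · exfalso
          have hcl : L.map a.toMonoidHom ≤ centralizer (L : Set K) := fun y hy =>
            mem_centralizer_iff.2 fun l hl => (commute_of_normal_of_disjoint L (L.map a.toMonoidHom)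
              hLn hn (by rw [subgroupOf_eq_bot] at h1; exact h1.symm) l y hl hy).eq
          rw [hLc, le_bot_iff] at hcl
          exact (Subgroup.nontrivial_iff_ne_bot L).1 inferInstance
            ((Subgroup.map_eq_bot_iff_of_injective L (f := a.toMonoidHom) a.injective).1 hcl)
        · exact subgroupOf_eq_top.1 h1
      have heq : L = L.map a.toMonoidHom := eq_of_le_of_card_ge hle
        (Nat.card_congr (L.equivMapOfInjective _ a.injective).toEquiv).symm.le
      exact ⟨a x, heq.symm ▸ ⟨x, hx, rfl⟩, MulAut.conjNormal_apply g x⟩⟩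
    have hbot : centralizer (M : Set G) ⊓ K = ⊥ := by
      rw [eq_bot_iff]
      rintro x ⟨hx, hxK⟩
      have h1 : (⟨x, hxK⟩ : K) ∈ centralizer (L : Set K) := mem_centralizer_iff.2 fun y hy =>
        Subtype.ext (mem_centralizer_iff.1 hx y ⟨y, hy, rfl⟩)
      rw [hLc, Subgroup.mem_bot] at h1
      exact congrArg Subtype.val h1
    have hC := hcen M hMn (map_subtype_le L) hbot
    have hMC : ∀ x ∈ M, x ∈ center G → x = 1 := fun x hx hxc =>
      Subgroup.mem_bot.1 (hbot ▸ ⟨hC.ge hxc, map_subtype_le L hx⟩)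
    set π := QuotientGroup.mk' (center G)
    have hinj : Function.Injective (π.subgroupMap M) := (injective_iff_map_eq_one _).2 fun x hx =>
      Subtype.ext (hMC x x.2 ((QuotientGroup.eq_one_iff _).1 (congrArg Subtype.val hx)))
    let eS : L ≃* M.map π := (L.equivMapOfInjective _ K.subtype_injective).trans
      (MulEquiv.ofBijective (π.subgroupMap M) ⟨hinj, π.subgroupMap_surjective M⟩)
    haveI : Nontrivial (M.map π) := eS.symm.toEquiv.nontrivial
    refine ⟨M.map π, hMn.map π (QuotientGroup.mk'_surjective _),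
      IsSimpleGroup.isSimpleGroup_of_surjective eS.toMonoidHom eS.surjective, fun hab => hnab ⟨⟨fun a b =>
        eS.injective (by rw [map_mul, map_mul, hab.is_comm.comm])⟩⟩, ?_,
      F, iF, iT, h3, mod_eight_of_not_dvd hodd (fun hd => h8 (dvd_trans
        ((Nat.card_congr eL.toEquiv).symm ▸ hd : 8 ∣ Nat.card L) L.card_subgroup_dvd_card)), ⟨eS.symm.trans eL⟩⟩
    rw [eq_bot_iff]
    intro y hy
    obtain ⟨x, rfl⟩ := QuotientGroup.mk'_surjective (center G) y
    rw [Subgroup.mem_bot, QuotientGroup.mk'_apply, QuotientGroup.eq_one_iff, ← hC,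
      mem_centralizer_iff]
    intro l hl
    rw [← commutatorElement_eq_one_iff_mul_comm]
    refine hMC _ ?_ ?_
    · rw [show ⁅l, x⁆ = l * (x * l⁻¹ * x⁻¹) by rw [commutatorElement_def]; group]
      exact mul_mem hl (hMn.conj_mem _ (inv_mem hl) x)
    · rw [← QuotientGroup.eq_one_iff, ← QuotientGroup.mk'_apply, map_commutatorElement,
        commutatorElement_eq_one_iff_mul_comm]
      exact mem_centralizer_iff.1 hy _ ⟨l, hl, rfl⟩

end CfsgLib.HalfClasses
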