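import Cfsg.Agent.Characters.Linear
import Mathlib.GroupTheory.ClassEquation
import Mathlib.GroupTheory.PGroup

/-!
# Counting conjugacy classes of 2-groups
-/

set_option autoImplicit false
set_option linter.unusedSectionVars false
set_option linter.style.haveILetI false

namespace CfsgLib.HalfClasses

open Subgroup
open scoped commutatorElement

/-- The degree equation: many classes force few commutators. -/
theorem four_mul_card_classes_le (P : Type*) [Group P] [Finite P] :
    4 * Nat.card (ConjClasses P) ≤ Nat.card P + 3 * (commutator P).index := by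
  classical
  cases nonempty_fintype P
  choose d hpos hd using fun χ : Cfsg.IrrCharacter P => Characters.exists_degree_pos χ.2
  have hsq : ∑ χ : Cfsg.IrrCharacter P, d χ ^ 2 = Nat.card P := by
    have h := Characters.sum_degree_sq (G := P)
    simp only [hd] at h
    exact_mod_cast h
  have hlin : (Finset.univ.filter fun χ : Cfsg.IrrCharacter P => d χ = 1).card =
      (commutator P).index := by
    rw [← Characters.card_linear_char, Nat.card_eq_fintype_card, Fintype.card_subtype]
    refine congrArg _ (Finset.filter_congr fun χ _ => ?_)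
    rw [hd]; exact_mod_cast Iff.rfl
  have hk : Nat.card (ConjClasses P) = (Finset.univ : Finset (Cfsg.IrrCharacter P)).card := by
    rw [← Characters.card_irrCharacter, Nat.card_eq_fintype_card]; rfl
  have hpt : ∀ χ, 4 ≤ d χ ^ 2 + 3 * (if d χ = 1 then 1 else 0) := fun χ => by
    split_ifs with h
    · simp [h]
    · have : 2 ^ 2 ≤ d χ ^ 2 := Nat.pow_le_pow_left (by have := hpos χ; omega) 2
      omega
  have := Finset.sum_le_sum (s := Finset.univ) fun χ _ => hpt χ
  rw [Finset.sum_add_distrib, ← Finset.mul_sum, hsq, Finset.sum_boole, Nat.cast_id, hlin,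
    Finset.sum_const, smul_eq_mul, mul_comm _ 4, ← hk] at this
  exact this

theorem four_le_index_center {P : Type*} [Group P] [Finite P] (hP : IsPGroup 2 P)
    (hne : ∃ a b : P, ¬ Commute a b) : 4 ≤ (center P).index := by
  haveI : Fact (Nat.Prime 2) := ⟨Nat.prime_two⟩
  obtain ⟨a, b, hab⟩ := hne
  obtain ⟨k, hk⟩ := IsPGroup.iff_card.1 (hP.to_quotient (center P))
  rw [index_eq_card, hk]
  by_contra h
  have hk1 : k ≤ 1 := by
    by_contra hk1
    exact h ((Nat.pow_le_pow_right two_pos (show 2 ≤ k by omega)).trans' (by norm_num))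
  haveI : IsCyclic (P ⧸ center P) := by
    rcases Nat.le_one_iff_eq_zero_or_eq_one.1 hk1 with rfl | rfl
    · haveI : Subsingleton (P ⧸ center P) :=
        (Nat.card_eq_one_iff_unique.1 (by simpa using hk)).1
      exact isCyclic_of_subsingleton
    · exact isCyclic_of_prime_card (p := 2) (by simpa using hk)
  exact hab (((QuotientGroup.mk' (center P)).isMulCommutative_of_isCyclic_of_ker_le_center
    (QuotientGroup.ker_mk' _).le).is_comm.comm a b)

/-- Classes inside a coset of a central subgroup `{1, z}`. -/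
theorem two_mul_card_classes {P : Type*} [Group P] [Finite P] (z : P)
    (hcomm : ∀ a b : P, ⁅a, b⁆ = 1 ∨ ⁅a, b⁆ = z) :
    2 * Nat.card (ConjClasses P) = Nat.card P + Nat.card (center P) := by
  classical
  cases nonempty_fintype P
  have htwo : ∀ c : ConjClasses P, c ∈ ConjClasses.noncenter P → Nat.card c.carrier = 2 := by
    intro c hc
    obtain ⟨x, rfl⟩ := ConjClasses.mk_surjective c
    have hsub : (ConjClasses.mk x).carrier ⊆ {x, z * x} := by
      intro y hy
      rw [ConjClasses.mem_carrier_iff_mk_eq, ConjClasses.mk_eq_mk_iff_isConj] at hy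
      obtain ⟨g, rfl⟩ := isConj_iff.1 hy.symm
      rcases hcomm g x with h | h
      · left
        rw [commutatorElement_def, mul_inv_eq_one] at h
        exact h
      · right
        rw [Set.mem_singleton_iff, ← h, commutatorElement_def]
        group
    have hle : Nat.card (ConjClasses.mk x).carrier ≤ 2 := by
      rw [Nat.card_coe_set_eq]
      exact (Set.ncard_le_ncard hsub (Set.toFinite _)).trans
        ((Set.ncard_insert_le _ _).trans (by simp))
    have hge : 1 < Nat.card (ConjClasses.mk x).carrier := by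
      rw [Nat.card_coe_set_eq]
      exact Set.one_lt_ncard_iff_nontrivial.2 hc
    omega
  have heq := Group.nat_card_center_add_sum_card_noncenter_eq_card P
  rw [finsum_mem_congr rfl htwo, finsum_mem_eq_finite_toFinset_sum _ (Set.toFinite _),
    Finset.sum_const, smul_eq_mul, ← Set.ncard_eq_toFinset_card _] at heq
  have hcompl : (ConjClasses.noncenter P)ᶜ.ncard = Nat.card (center P) := by
    rw [← Nat.card_coe_set_eq]
    exact (Nat.card_congr ((ConjClasses.mk_bijOn P).equiv)).symm
  have := Set.ncard_add_ncard_compl (ConjClasses.noncenter P)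
  rw [hcompl] at this
  omega

/-- The class of a central element is a singleton. -/
theorem eq_of_mk_eq_of_mem_center {P : Type*} [Group P] {a b : P} (ha : a ∈ center P)
    (h : ConjClasses.mk a = ConjClasses.mk b) : b = a := by
  obtain ⟨g, rfl⟩ := isConj_iff.1 (ConjClasses.mk_eq_mk_iff_isConj.1 h)
  rw [mem_center_iff.1 ha g, mul_inv_cancel_right]

/-- Orbits of a permutation of odd order inside the fibres of a map. -/
theorem three_mul_card_range_le {X Y : Type*} [Finite X] (f : X → Y) (σ : Equiv.Perm X) {o : ℕ}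
    (ho : Odd o) (hσ : σ ^ o = 1) (hf : ∀ x, f (σ x) = f x) :
    3 * (Set.range f).ncard + 2 * {x | σ x ≠ x}.ncard ≤ 3 * Nat.card X ∧
      (3 * (Set.range f).ncard + 2 * {x | σ x ≠ x}.ncard = 3 * Nat.card X →
        ∀ x y, f x = f y → y = x ∨ y = σ x ∨ y = σ (σ x)) := by
  classical
  cases nonempty_fintype X
  set w : X → ℕ := fun x => if σ x = x then 3 else 1 with hw
  have hσ2 : ∀ x, σ (σ x) = x → σ x = x := by
    intro x h
    obtain ⟨j, rfl⟩ := ho
    have h2 : (σ ^ (2 * j)) x = x := by
      rw [pow_mul]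
      exact Equiv.Perm.pow_apply_eq_self_of_apply_eq_self (by rwa [pow_two]) j
    have h3 := congrArg (fun τ : Equiv.Perm X => τ x) hσ
    simp only [pow_succ', Equiv.Perm.mul_apply, h2, Equiv.Perm.one_apply] at h3
    exact h3
  have hfib : ∀ y ∈ Finset.univ.image f, 3 ≤ ∑ x ∈ Finset.univ.filter (fun x => f x = y), w x ∧
      ((∑ x ∈ Finset.univ.filter (fun x => f x = y), w x) = 3 → ∀ x, f x = y → ∀ x', f x' = y →
        x' = x ∨ x' = σ x ∨ x' = σ (σ x)) := by
    intro y _
    have key : ∀ x, f x = y → ∃ O : Finset X, (∀ x' ∈ O, x' = x ∨ x' = σ x ∨ x' = σ (σ x)) ∧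
        O ⊆ Finset.univ.filter (fun x => f x = y) ∧ ∑ x' ∈ O, w x' = 3 := by
      intro x hx
      by_cases hfix : σ x = x
      · exact ⟨{x}, by simp, by simp [hx], by simp [hw, hfix]⟩
      · refine ⟨{x, σ x, σ (σ x)}, by simp, ?_, ?_⟩
        · intro a ha
          simp only [Finset.mem_insert, Finset.mem_singleton] at ha
          rcases ha with rfl | rfl | rfl <;> simp [hf, hx]
        · have h1 : x ∉ ({σ x, σ (σ x)} : Finset X) := by
            simp only [Finset.mem_insert, Finset.mem_singleton, not_or]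
            exact ⟨fun h => hfix h.symm, fun h => hfix (hσ2 x h.symm)⟩
          have h2 : σ x ∉ ({σ (σ x)} : Finset X) := by
            simp only [Finset.mem_singleton]
            exact fun h => hfix (σ.injective h).symm
          have h3 : ¬ σ (σ x) = σ x := fun h => hfix (σ.injective h)
          have h4 : ¬ σ (σ (σ x)) = σ (σ x) := fun h => h3 (σ.injective h)
          rw [Finset.sum_insert h1, Finset.sum_insert h2, Finset.sum_singleton]
          simp only [hw, hfix, h3, h4, if_false, Nat.reduceAdd]
    obtain ⟨x₀, -, rfl⟩ := Finset.mem_image.1 ‹y ∈ Finset.univ.image f›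
    refine ⟨?_, fun h3 x hx x' hx' => ?_⟩
    · obtain ⟨O, -, hO, hs⟩ := key x₀ rfl
      exact hs ▸ Finset.sum_le_sum_of_subset hO
    · obtain ⟨O, hmem, hO, hs⟩ := key x hx
      refine hmem x' ?_
      by_contra hn
      have := Finset.sum_lt_sum_of_subset hO (i := x') (by simp [hx']) hn
        (by simp only [hw]; split_ifs <;> norm_num) (fun j _ _ => Nat.zero_le _) (f := w)
      omega
  have htot : ∑ x, w x + 2 * {x | σ x ≠ x}.ncard = 3 * Nat.card X := by
    have h1 : {x | σ x ≠ x}.ncard = ∑ x, (if σ x = x then 0 else 1) := by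
      rw [Set.ncard_eq_toFinset_card', Set.toFinset_setOf, Finset.card_filter]
      exact Finset.sum_congr rfl fun x _ => by by_cases h : σ x = x <;> simp [h]
    rw [h1, Finset.mul_sum, ← Finset.sum_add_distrib, Finset.sum_congr rfl (g := fun _ => 3)
      fun x _ => by simp only [hw]; by_cases h : σ x = x <;> simp [h]]
    rw [Finset.sum_const, smul_eq_mul, Finset.card_univ, Nat.card_eq_fintype_card, mul_comm]
  have hsum := Finset.sum_fiberwise_of_maps_to
    (s := Finset.univ) (t := Finset.univ.image f) (g := f) (fun x _ => Finset.mem_image_of_mem f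
      (Finset.mem_univ x)) w
  have hr : (Set.range f).ncard = (Finset.univ.image f).card := by
    rw [← Set.image_univ, ← Finset.coe_univ, ← Finset.coe_image, Set.ncard_coe_finset]
  have hconst : 3 * (Finset.univ.image f).card = ∑ _y ∈ Finset.univ.image f, 3 := by
    rw [Finset.sum_const, smul_eq_mul, mul_comm]
  refine ⟨?_, fun heq x y hxy => ?_⟩
  · have := Finset.sum_le_sum fun y hy => (hfib y hy).1
    omega
  · have hyim : f x ∈ Finset.univ.image f := Finset.mem_image_of_mem f (Finset.mem_univ x)
    refine (hfib _ hyim).2 ?_ x rfl y hxy.symm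
    by_contra hne
    have := Finset.sum_lt_sum (fun y hy => (hfib y hy).1)
      ⟨f x, hyim, lt_of_le_of_ne (hfib _ hyim).1 (Ne.symm hne)⟩
    omega

/-- An automorphism of odd order of a 2-group moves at least three quarters of it modulo a
fixed normal subgroup. -/
theorem four_le_index_fix {Q : Type*} [Group Q] [Finite Q] (hQ : IsPGroup 2 Q) (φ : MulAut Q)
    {o : ℕ} (ho : Odd o) (hφ : φ ^ o = 1) (Z : Subgroup Q) [Z.Normal] (hZ : ∀ z ∈ Z, φ z = z)
    (B : Subgroup Q) (hB : ∀ x, x ∈ B ↔ x⁻¹ * φ x ∈ Z) (hne : B ≠ ⊤) : 4 ≤ B.index := by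
  haveI : Fact (Nat.Prime 2) := ⟨Nat.prime_two⟩
  obtain ⟨k, hk⟩ := hQ.index B
  have h2 : B.index ≠ 2 := by
    intro h2
    obtain ⟨x, hx⟩ : ∃ x, x ∉ B := by
      by_contra h
      exact hne ((eq_top_iff' B).2 fun x => by_contra fun hx => h ⟨x, hx⟩)
    set π := QuotientGroup.mk' Z
    have hBc : ∀ y, y ∈ B ↔ π (φ y) = π y := fun y => by
      rw [hB, ← QuotientGroup.eq_one_iff, ← QuotientGroup.mk'_apply, map_mul, map_inv,
        inv_mul_eq_one, eq_comm]
    have hφx : φ x ∉ B := fun h => hx (by
      rw [hB] at h ⊢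
      have h1 : (φ x)⁻¹ * φ (φ x) = φ (x⁻¹ * φ x) := by rw [map_mul, map_inv]
      rw [h1] at h
      have h3 := hZ _ h
      rw [φ.injective.eq_iff] at h3
      rwa [h3] at h)
    set y := x⁻¹ * φ x
    have hy : y ∈ B := (mul_mem_iff_of_index_two h2).2 (by simp [hx, hφx])
    have hpow : ∀ j : ℕ, π ((φ ^ j) x) = π (x * y ^ j) := by
      intro j
      induction j with
      | zero => simp
      | succ j ih =>
        rw [pow_succ', MulAut.mul_apply]
        have h1 : π (φ ((φ ^ j) x)) = π (φ (x * y ^ j)) := by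
          rw [QuotientGroup.mk'_apply, QuotientGroup.mk'_apply, QuotientGroup.eq] at ih ⊢
          rw [← map_inv, ← map_mul, hZ _ ih]
          exact ih
        rw [h1, map_mul, map_mul π, (hBc _).1 (pow_mem hy j), show φ x = x * y by
          simp only [y]; group, ← map_mul, mul_assoc, ← pow_succ']
    have h1 : π y ^ o = 1 := by
      have := hpow o
      rw [hφ, MulAut.one_apply, map_mul, left_eq_mul, map_pow] at this
      exact this
    obtain ⟨j, hj⟩ := (hQ.to_quotient Z) (π y)
    have h3 : orderOf (π y) ∣ Nat.gcd o (2 ^ j) :=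
      Nat.dvd_gcd (orderOf_dvd_of_pow_eq_one h1) (orderOf_dvd_of_pow_eq_one hj)
    rw [Nat.Coprime.pow_right j (Nat.coprime_two_right.2 ho), Nat.dvd_one, orderOf_eq_one_iff] at h3
    exact hx ((hB x).2 ((QuotientGroup.eq_one_iff y).1 h3))
  have h1 : B.index ≠ 1 := fun h => hne (index_eq_one.1 h)
  rw [hk] at h1 h2 ⊢
  rcases k with _ | _ | k
  · simp at h1
  · simp at h2
  · calc 4 = 2 ^ 2 := rfl
      _ ≤ _ := Nat.pow_le_pow_right two_pos (by omega)

end CfsgLib.HalfClasses
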